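import Cfsg.Agent.MinIndexForm.SU.Points

/-!
Class sizes and the number of isotropic points of a Hermitian space of even dimension.
-/

set_option autoImplicit false

namespace Cfsg.Agent.MinIndexForm.SUE

open Cfsg.Agent.Classical Cfsg.Agent.MinIndexForm.SU Module

/-- The number of isotropic points in dimension 2k. -/
def Ne (q k : ℕ) : ℕ := (q ^ (2 * k - 1) + 1) * ∑ i ∈ Finset.range k, (q ^ 2) ^ i

theorem Ne_two (q : ℕ) : Ne q 2 = (q ^ 3 + 1) * (q ^ 2 + 1) := by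
  simp [Ne, Finset.sum_range_succ]; ring

theorem Ne_mul (q k : ℕ) (hq : 1 ≤ q) : Ne q k * (q ^ 2 - 1) = (q ^ (2 * k) - 1) * (q ^ (2 * k - 1) + 1) := by
  have h : (∑ i ∈ Finset.range k, (q ^ 2) ^ i) * (q ^ 2 - 1) + 1 = q ^ (2 * k) := by
    obtain ⟨r, hr⟩ : ∃ r, q ^ 2 = r + 1 := ⟨q ^ 2 - 1, by have := Nat.one_le_pow 2 q hq; omega⟩
    rw [pow_mul, hr, Nat.add_sub_cancel, geom_sum_mul_add]
  rw [Ne, mul_assoc, mul_comm]
  congr 1
  omega

theorem Ne_succ (q k : ℕ) (hq : 1 ≤ q) (hk : 1 ≤ k) :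
    Ne q (k + 1) = q ^ 2 * Ne q k + q ^ (4 * k + 1) + 1 := by
  obtain ⟨l, rfl⟩ : ∃ l, k = l + 1 := ⟨k - 1, by omega⟩
  obtain ⟨r, hr⟩ : ∃ r, q ^ 2 = r + 1 := ⟨q ^ 2 - 1, by have := Nat.one_le_pow 2 q hq; omega⟩
  have h : (∑ i ∈ Finset.range (l + 1), (q ^ 2) ^ i) * r + 1 = q ^ (2 * (l + 1)) := by
    rw [pow_mul, hr, geom_sum_mul_add]
  rw [Ne, Ne, geom_sum_succ, show 2 * (l + 1 + 1) - 1 = 2 * (l + 1) + 1 by omega,
    show 2 * (l + 1) - 1 = 2 * l + 1 by omega, show q ^ (2 * (l + 1) + 1) = q ^ (2 * l + 1) * q ^ 2 by ring,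
    show q ^ (4 * (l + 1) + 1) = q ^ (2 * l + 1) * q ^ 2 * q ^ (2 * (l + 1)) by ring, ← h]
  generalize (∑ i ∈ Finset.range (l + 1), (q ^ 2) ^ i) = S
  rw [hr]
  ring

universe uF uV
variable {F : Type uF} {V : Type uV} [Field F] [AddCommGroup V] [Module F V] {θ : F →+* F}
  {B : V →ₛₗ[θ] V →ₗ[F] F} [Finite F] [FiniteDimensional F V]

theorem card_iso (h : Herm.IsHerm B) {k : ℕ} (hd : finrank F V = 2 * k) :
    Nat.card {x : V // x ≠ 0 ∧ B x x = 0} =
      Ne (Nat.card (Herm.fixField θ)) k * (Nat.card (Herm.fixField θ) ^ 2 - 1) := by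
  have : Fintype F := Fintype.ofFinite F
  have : Finite V := Module.finite_of_finite F
  have h2 := two_le_fix h.toIsInvol
  have h1 := card_herm_isotropic h.toIsInvol rfl (2 * k)
  rw [if_pos (even_two_mul k), ← card_norm_eq h hd, ← Ne_mul _ k (by omega)] at h1
  have e : Nat.card {x : V // B x x = 0} = Nat.card {x : V // x ≠ 0 ∧ B x x = 0} + 1 := by
    classical
    have : Fintype V := Fintype.ofFinite V
    simp only [Nat.card_eq_fintype_card, Fintype.card_subtype]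
    rw [← Finset.card_insert_of_notMem (a := (0 : V)) (by simp)]
    congr 1
    ext x
    rcases eq_or_ne x 0 with rfl | hx <;> simp [*]
  omega

theorem card_aniso (h : Herm.IsHerm B) {k : ℕ} (hd : finrank F V = 2 * k) {a : F} (ha : θ a = a) (ha0 : a ≠ 0) :
    Nat.card {x : V // B x x = a} =
      Nat.card (Herm.fixField θ) ^ (2 * k - 1) * (Nat.card (Herm.fixField θ) ^ (2 * k) - 1) := by
  have : Fintype F := Fintype.ofFinite F
  rw [card_norm_eq h hd, card_herm_scale h.toIsInvol (2 * k) ha ha0, card_herm_one h.toIsInvol rfl,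
    if_pos (even_two_mul k)]

omit [Finite F] [FiniteDimensional F V] in
theorem card_class_aniso {a : F} (ha0 : a ≠ 0) :
    Nat.card {x : V // x ≠ 0 ∧ B x x = a} = Nat.card {x : V // B x x = a} :=
  Nat.card_congr (Equiv.subtypeEquivRight fun x =>
    ⟨fun hx => hx.2, fun hx => ⟨fun h0 => ha0 (by rw [← hx, h0]; simp), hx⟩⟩)

/-- An invariant additive subgroup meets two classes. -/
theorem card_invariant_ge (h : Herm.IsHerm B) (hn : 3 ≤ finrank F V) (L : AddSubgroup V)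
    (hinv : ∀ g : Herm.suG B, ∀ x ∈ L, g.1 x ∈ L) (hne : L ≠ ⊥) :
    Nat.card {x : V // x ≠ 0 ∧ B x x = 0} + Nat.card {x : V // B x x = 1} ≤ Nat.card L := by
  have : Finite V := Module.finite_of_finite F
  have hn2 : 2 ≤ finrank F V := by omega
  obtain ⟨e, he0, hee⟩ := Herm.exists_isotropic h hn2
  obtain ⟨τ, rfl⟩ := exists_frame h he0 hee
  have hnorm : ∀ d : F, B (τ.y + d • τ.f) (τ.y + d • τ.f) = d + θ d := fun d => by
    simp [τ.hyy, τ.hff, τ.hyf, τ.hfy]
  have hiso : ∀ u ∈ L, u ≠ 0 → B u u = 0 → ∀ x, B x x = 0 → x ∈ L := fun u hu hu0 huu x hxx => by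
    rcases eq_or_ne x 0 with rfl | hx0
    · exact L.zero_mem
    obtain ⟨g, rfl⟩ := trans_iso h hn hu0 huu hx0 hxx
    exact hinv g u hu
  obtain ⟨k, hk0, hk⟩ := Herm.exists_skew h.toIsInvol
  obtain ⟨u, hu, hu0, huu⟩ : ∃ u ∈ L, u ≠ 0 ∧ B u u = 0 := by
    obtain ⟨v, hv, hv0⟩ : ∃ v ∈ L, v ≠ 0 := by
      by_contra hc; push Not at hc; exact hne ((AddSubgroup.eq_bot_iff_forall _).2 hc)
    by_cases hvv : B v v = 0
    · exact ⟨v, hv, hv0, hvv⟩
    obtain ⟨c, hc⟩ := Herm.exists_trace h.toIsInvol (Herm.fix_self h v)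
    have hin : ∀ d : F, d + θ d = B v v → τ.y + d • τ.f ∈ L := fun d hd' => by
      obtain ⟨g, hg⟩ := trans_aniso h hn2 (u := v) (w := τ.y + d • τ.f) (by rw [hnorm, hd']; exact hvv)
        (by rw [hnorm, hd'])
      exact hg ▸ hinv g v hv
    have hm := L.sub_mem (hin (c + k) (by rw [map_add, hk]; linear_combination hc)) (hin c hc)
    have hf0 : τ.f ≠ 0 := fun h0 => by simpa [h0] using τ.hyf
    refine ⟨k • τ.f, ?_, smul_ne_zero hk0 hf0, by simp [τ.hff]⟩
    convert hm using 1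
    rw [add_smul]; abel
  obtain ⟨c1, hc1⟩ := Herm.exists_trace h.toIsInvol (a := (1 : F)) (map_one θ)
  have hone : ∀ x, B x x = 1 → x ∈ L := fun x hx => by
    have hw : τ.y + c1 • τ.f ∈ L := L.add_mem (hiso u hu hu0 huu _ τ.hyy) (hiso u hu hu0 huu _ (by simp [τ.hff]))
    have hw1 : B (τ.y + c1 • τ.f) (τ.y + c1 • τ.f) = 1 := by rw [hnorm, hc1]
    obtain ⟨g, rfl⟩ := trans_aniso h hn2 (u := τ.y + c1 • τ.f) (w := x) (by rw [hx]; exact one_ne_zero)
      (by rw [hw1, hx])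
    exact hinv g _ hw
  rw [← Nat.card_sum]
  refine Nat.card_le_card_of_injective (Sum.elim (fun x => (⟨x.1, hiso u hu hu0 huu _ x.2.2⟩ : L))
    fun x => ⟨x.1, hone _ x.2⟩) ?_
  rintro (x | x) (z | z) e
  · exact congrArg _ (Subtype.ext (congrArg Subtype.val e :))
  · have e' : x.1 = z.1 := congrArg Subtype.val e
    exact absurd z.2 (by rw [← e', x.2.2]; exact zero_ne_one)
  · have e' : x.1 = z.1 := congrArg Subtype.val e
    exact absurd x.2 (by rw [e', z.2.2]; exact zero_ne_one)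
  · exact congrArg _ (Subtype.ext (congrArg Subtype.val e :))

/-- The number of isotropic points. -/
theorem index_P (τ : Fr B) {k : ℕ} (hd : finrank F V = 2 * k) (hk : 2 ≤ k) :
    τ.P.index = Ne (Nat.card (Herm.fixField θ)) k := by
  have := Fr.finite_su (B := B)
  have hθ := τ.hB.toIsInvol
  set q := Nat.card (Herm.fixField θ) with hq
  have h2 : 2 ≤ q := two_le_fix hθ
  have hrel : τ.P1.relIndex τ.P = Nat.card Fˣ := by
    have hker : τ.P1.subgroupOf τ.P = τ.aHom.ker := by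
      ext g
      rw [Subgroup.mem_subgroupOf, MonoidHom.mem_ker, τ.aHom_apply]
      refine ⟨fun hg => τ.aval_eq (by rw [τ.mem_P1] at hg; simpa using hg), fun hg => ?_⟩
      have := τ.aval_spec g
      rw [hg, Units.val_one, one_smul] at this
      exact this
    rw [Subgroup.relIndex, hker, Subgroup.index_ker,
      MonoidHom.range_eq_top.2 (τ.aHom_surjective (by omega)), Subgroup.card_top]
  have h := Subgroup.relIndex_mul_index τ.P1_le_P
  rw [hrel, index_P1 τ (by omega), card_iso τ.hB hd] at h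
  have hu := card_units_sq hθ
  rw [← hq, show Nat.card Fˣ = q ^ 2 - 1 by rw [← hq] at hu; omega, mul_comm] at h
  have h4 : 2 ^ 2 ≤ q ^ 2 := Nat.pow_le_pow_left h2 2
  exact Nat.eq_of_mul_eq_mul_right (by omega) h

end Cfsg.Agent.MinIndexForm.SUE
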