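import Cfsg.Agent.MinIndexForm.SUE.Counts
import Cfsg.Agent.MinIndexForm.SU.Three

/-!
Subgroups of a four-dimensional special unitary group with a small invariant additive subgroup of vectors.
-/

set_option autoImplicit false

namespace Cfsg.Agent.MinIndexForm.SUE

open Cfsg.Agent.Classical Cfsg.Agent.MinIndexForm.SU Module

universe uF uV
variable {F : Type uF} {V : Type uV} [Field F] [AddCommGroup V] [Module F V] {θ : F →+* F}
  {B : V →ₛₗ[θ] V →ₗ[F] F}

/-- The orthogonal complement of an anisotropic vector. -/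
def perp (B : V →ₛₗ[θ] V →ₗ[F] F) (x : V) : Submodule F V := LinearMap.ker (B x)

theorem perp_isHerm (h : Herm.IsHerm B) {x : V} (hx : B x x ≠ 0) :
    Herm.IsHerm (B.domRestrict₁₂ (perp B x) (perp B x)) where
  toIsInvol := h.toIsInvol
  symm u v := h.symm _ _
  nondeg u hu := by
    refine Subtype.ext (h.nondeg _ fun z => ?_)
    have hux : B (u : V) x = 0 := (Herm.eq_zero_comm h).1 u.2
    have hz : z - (B x z / B x x) • x ∈ perp B x := by
      show B x _ = 0
      rw [map_sub, map_smul, smul_eq_mul, div_mul_cancel₀ _ hx, sub_self]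
    have h1 : B (u : V) (z - (B x z / B x x) • x) = 0 := hu ⟨_, hz⟩
    rwa [map_sub, map_smul, hux, smul_zero, sub_zero] at h1

theorem finrank_perp [FiniteDimensional F V] {x : V} (hx : B x x ≠ 0) :
    finrank F (perp B x) + 1 = finrank F V := by
  have h := (B x).finrank_range_add_finrank_ker
  have hs : LinearMap.range (B x) = ⊤ := LinearMap.range_eq_top.2 fun a =>
    ⟨(a / B x x) • x, by rw [map_smul, smul_eq_mul, div_mul_cancel₀ _ hx]⟩
  rw [hs, finrank_top, Module.finrank_self] at h
  rw [add_comm] at h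
  exact h

variable [Finite F] [FiniteDimensional F V]

theorem exists_perp_unit (h : Herm.IsHerm B) (hn : 3 ≤ finrank F V) (w : V) : ∃ e, B e e = 1 ∧ B e w = 0 := by
  rcases eq_or_ne w 0 with rfl | hw
  · obtain ⟨e, he⟩ := exists_unit h (by omega)
    exact ⟨e, he, map_zero _⟩
  by_cases hww : B w w = 0
  · obtain ⟨τ, rfl⟩ := exists_frame h hw hww
    obtain ⟨e, he⟩ := exists_unit τ.hB_W (by have := τ.finrank_W; omega)
    exact ⟨e, he, τ.Bwy e⟩
  · obtain ⟨c, hc⟩ := Herm.exists_unit_of_ne_zero h hww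
    have ha : Herm.IsON B ![c • w] := fun i j => by fin_cases i; fin_cases j; simpa using hc
    obtain ⟨e, he⟩ := Herm.exists_snoc h ha (by omega)
    have h1 : B e e = 1 := by simpa using he (Fin.last 1) (Fin.last 1)
    have h2 : B e (c • w) = 0 := by
      have := he (Fin.last 1) (Fin.castSucc 0)
      rw [Fin.snoc_last, Fin.snoc_castSucc, if_neg (by decide)] at this
      simpa using this
    have hc0 : c ≠ 0 := fun h0 => by simp [h0] at hc
    rw [map_smul, smul_eq_mul, mul_eq_zero] at h2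
    exact ⟨e, h1, h2.resolve_left hc0⟩

theorem li_pair (h : Herm.IsHerm B) {x z : V} (hx : B x x ≠ 0) (hz : z - (B x z / B x x) • x ≠ 0) :
    LinearIndependent F ![x, z] := by
  refine LinearIndependent.pair_iff.2 fun s t hst => ?_
  have e1 : B x (s • x + t • z) = 0 := by rw [hst, map_zero]
  simp only [map_add, map_smul, smul_eq_mul] at e1
  have ht : t = 0 := by
    by_contra ht
    refine hz ?_
    have hzz : z = (-(t⁻¹ * s)) • x := by
      rw [neg_smul, mul_smul, ← smul_neg, ← (neg_eq_of_add_eq_zero_right hst).symm]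
      rw [inv_smul_smul₀ ht]
    rw [hzz, map_smul, smul_eq_mul, mul_div_cancel_right₀ _ hx, sub_self]
  refine ⟨?_, ht⟩
  rw [ht, zero_mul, add_zero] at e1
  exact (mul_eq_zero.1 e1).resolve_right hx

theorem trans_pair (h : Herm.IsHerm B) (hn : 4 ≤ finrank F V) {x z x' z' : V} (hx : B x' x' ≠ 0)
    (e1 : B x x = B x' x') (e2 : B x z = B x' z') (e3 : B z z = B z' z')
    (hz : z - (B x z / B x x) • x ≠ 0) (hz' : z' - (B x' z' / B x' x') • x' ≠ 0) :
    ∃ g : Herm.suG B, g.1 x = x' ∧ g.1 z = z' := by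
  obtain ⟨g, hg, hgu⟩ := Herm.witt_family h (finrank F V - 2) ![x, z] ![x', z'] rfl
    (li_pair h (by rw [e1]; exact hx) hz) (li_pair h hx hz') (by
      intro i j
      fin_cases i <;> fin_cases j
      · exact e1
      · exact e2
      · show B z x = B z' x'
        rw [← h.symm x z, ← h.symm x' z', e2]
      · exact e3)
  set z'' : V := z' - (B x' z' / B x' x') • x' with hz''
  have hmem : z'' ∈ perp B x' := by
    show B x' z'' = 0
    rw [hz'', map_sub, map_smul, smul_eq_mul, div_mul_cancel₀ _ hx, sub_self]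
  obtain ⟨e, he, hez⟩ := exists_perp_unit (perp_isHerm h hx) (by have := finrank_perp (B := B) hx; omega) ⟨z'', hmem⟩
  have hex : B (e : V) x' = 0 := (Herm.eq_zero_comm h).1 e.2
  have hez' : B (e : V) z' = 0 := by
    have h1 : B (e : V) z'' = 0 := hez
    rwa [hz'', map_sub, map_smul, hex, smul_zero, sub_zero] at h1
  have he1 : B (e : V) (e : V) = 1 := he
  have hd := det_norm h hg
  have hμ : (LinearEquiv.det g : F)⁻¹ * θ (LinearEquiv.det g : F)⁻¹ = 1 := by
    rw [map_inv₀, ← mul_inv, hd, inv_one]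
  refine ⟨⟨dil he1 _ hμ * g, fun a b => ?_, Units.ext ?_⟩, ?_, ?_⟩
  · rw [LinearEquiv.mul_apply, LinearEquiv.mul_apply, dil_isometry h he1 _ hμ, hg]
  · rw [map_mul, Units.val_mul, det_dil, inv_mul_cancel₀ (left_ne_zero_of_mul_eq_one hd), Units.val_one]
  · show dil he1 _ hμ (g x) = x'
    have := hgu 0
    simp only [Matrix.cons_val_zero] at this
    rw [this, dil_apply, hex, mul_zero, zero_smul, add_zero]
  · show dil he1 _ hμ (g z) = z'
    have := hgu 1
    simp only [Matrix.cons_val_one, Matrix.cons_val_zero] at this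
    rw [this, dil_apply, hez', mul_zero, zero_smul, add_zero]

variable (h : Herm.IsHerm B) (hd : finrank F V = 4) (J : Subgroup (Herm.suG B)) (L : AddSubgroup V)
  (hinv : ∀ g ∈ J, ∀ x ∈ L, g.1 x ∈ L)

omit [Finite F] [FiniteDimensional F V] in
theorem card_inter_lt [Finite V] (P : V → Prop) (h0 : ¬P 0) : Nat.card {x : V // x ∈ L ∧ P x} + 1 ≤ Nat.card L := by
  classical
  rw [← Finite.card_option]
  refine Nat.card_le_card_of_injective (fun o => o.elim (0 : L) fun x => ⟨x.1, x.2.1⟩) ?_
  rintro (_ | x) (_ | z) e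
  · rfl
  · have e' : (0 : V) = z.1 := congrArg Subtype.val e
    exact absurd z.2.2 (e' ▸ h0)
  · have e' : x.1 = (0 : V) := congrArg Subtype.val e
    exact absurd x.2.2 (e'.symm ▸ h0)
  · exact congrArg some (Subtype.ext (congrArg (fun z : L => (z : V)) e))

omit [Finite F] [FiniteDimensional F V] in
theorem card_fibre_le [Finite V] {x z0 : V} (hz0 : z0 ∈ L) (hne : B x z0 ≠ 0) (c : F) :
    2 * Nat.card {z : V // z ∈ L ∧ B x z = c} ≤ Nat.card L := by
  rw [two_mul, ← Nat.card_sum]
  refine Nat.card_le_card_of_injective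
    (Sum.elim (fun z => (⟨z.1, z.2.1⟩ : L)) fun z => ⟨z.1 + z0, L.add_mem z.2.1 hz0⟩) ?_
  rintro (z | z) (w | w) e
  · exact congrArg _ (Subtype.ext (congrArg Subtype.val e :))
  · have e' : z.1 = w.1 + z0 := congrArg Subtype.val e
    exact absurd (by have := z.2.2; rw [e', map_add, w.2.2] at this; exact add_eq_left.1 this) hne
  · have e' : z.1 + z0 = w.1 := congrArg Subtype.val e
    exact absurd (by have := w.2.2; rw [← e', map_add, z.2.2] at this; exact add_eq_left.1 this) hne
  · exact congrArg _ (Subtype.ext (add_right_cancel (congrArg Subtype.val e :)))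

include h hd hinv

/-- An anisotropic vector and a second direction. -/
theorem bound_aniso {u v : V} (hu : u ∈ L) (huu : B u u ≠ 0) (hv : v ∈ L)
    (hv' : v - (B u v / B u u) • u ≠ 0) :
    2 * (Nat.card (Herm.fixField θ) ^ 3 * (Nat.card (Herm.fixField θ) ^ 4 - 1) *
        ((Nat.card (Herm.fixField θ) ^ 3 + 1) * (Nat.card (Herm.fixField θ) ^ 2 - 1))) ≤
      J.index * ((Nat.card L - 1) * Nat.card L) := by
  classical
  have : Finite V := Module.finite_of_finite F
  have := Fr.finite_su (B := B)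
  have : Fintype V := Fintype.ofFinite V
  set q := Nat.card (Herm.fixField θ) with hq
  set a := B u u with hadef
  set c := B u v with hcdef
  set C : Set (V × V) := {p | B p.1 p.1 = a ∧ B p.1 p.2 = c ∧ B p.2 p.2 = B v v ∧ p.2 - (c / a) • p.1 ≠ 0}
    with hC
  have hcount := orbit_count_gen (G := Herm.suG B) (fun g p => ((g.1 p.1, g.1 p.2) : V × V)) (fun _ => rfl)
    (fun _ _ _ => rfl) (C := C) (U := (L : Set V) ×ˢ (L : Set V))
    (fun g p hp => by
      refine ⟨by rw [g.2.1]; exact hp.1, by rw [g.2.1]; exact hp.2.1, by rw [g.2.1]; exact hp.2.2.1, ?_⟩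
      rw [← map_smul, ← map_sub]
      exact fun h0 => hp.2.2.2 (g.1.map_eq_zero_iff.1 h0))
    (fun p hp p' hp' => by
      obtain ⟨g, hg1, hg2⟩ := trans_pair h (by omega) (x := p.1) (z := p.2) (x' := p'.1) (z' := p'.2)
        (by rw [hp'.1]; exact huu) (hp.1.trans hp'.1.symm) (hp.2.1.trans hp'.2.1.symm)
        (hp.2.2.1.trans hp'.2.2.1.symm) (by rw [hp.1, hp.2.1]; exact hp.2.2.2)
        (by rw [hp'.1, hp'.2.1]; exact hp'.2.2.2)
      exact ⟨g, Prod.ext hg1 hg2⟩)
    J (fun g hg p hp => ⟨hinv g hg _ hp.1, hinv g hg _ hp.2⟩)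
    ⟨(u, v), ⟨hu, hv⟩, rfl, rfl, rfl, hv'⟩
  -- the class is large
  set b := B v v - c * θ c / a with hbdef
  have hθa : θ a = a := Herm.fix_self h u
  have hbfix : θ b = b := by
    rw [hbdef, map_sub, map_div₀, map_mul, h.invol, hθa, Herm.fix_self h, mul_comm]
  have hfib : ∀ x : {x : V // B x x = a}, (q ^ 3 + 1) * (q ^ 2 - 1) ≤
      Nat.card {z : V // (x.1, z) ∈ C} := by
    rintro ⟨x, hx⟩
    have hx0 : B x x ≠ 0 := by rw [hx]; exact huu
    have hH := perp_isHerm h hx0
    have hd3 : finrank F (perp B x) = 3 := by have := finrank_perp (B := B) hx0; omega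
    refine le_trans ?_ (Nat.card_le_card_of_injective (α := {w : perp B x // w ≠ 0 ∧ B (w : V) (w : V) = b})
      (fun w => ⟨(w.1 : V) + (c / a) • x, hx, by
          rw [map_add, map_smul, (show B x (w.1 : V) = 0 from w.1.2), hx, smul_eq_mul, zero_add,
            div_mul_cancel₀ _ huu], by
          have hwx : B (w.1 : V) x = 0 := (Herm.eq_zero_comm h).1 w.1.2
          simp [hwx, (show B x (w.1 : V) = 0 from w.1.2), hx, w.2.2, hbdef, hθa]
          field_simp
          ring, by
          rw [add_sub_cancel_right]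
          exact fun h0 => w.2.1 (Subtype.ext h0)⟩) fun w w' e =>
        Subtype.ext (Subtype.ext (add_right_cancel (congrArg Subtype.val e :))))
    have hodd : Odd 3 := by decide
    by_cases hb : b = 0
    · have := SU.card_iso hH hd3 hodd
      rw [← hq] at this
      rw [hb]
      exact this.ge
    · have hca := SU.card_aniso hH hd3 hodd hbfix hb
      rw [← hq] at hca
      have e := card_class_aniso (B := B.domRestrict₁₂ (perp B x) (perp B x)) hb
      rw [hca] at e
      refine le_trans ?_ e.ge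
      rw [mul_comm]
      exact Nat.mul_le_mul_right _ (Nat.sub_le _ _)
  have hCge : q ^ 3 * (q ^ 4 - 1) * ((q ^ 3 + 1) * (q ^ 2 - 1)) ≤ Nat.card C := by
    have e : Nat.card C = Nat.card ((x : {x : V // B x x = a}) × {z : V // (x.1, z) ∈ C}) :=
      Nat.card_congr
        { toFun := fun p => ⟨⟨p.1.1, p.2.1⟩, p.1.2, p.2⟩
          invFun := fun s => ⟨(s.1.1, s.2.1), s.2.2⟩
          left_inv := fun p => rfl
          right_inv := fun s => rfl }
    have hc1 := card_aniso (k := 2) h hd hθa huu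
    rw [← hq] at hc1
    rw [e, Nat.card_sigma]
    refine le_trans ?_ (Finset.sum_le_sum fun x _ => hfib x)
    rw [Finset.sum_const, Finset.card_univ, ← Nat.card_eq_fintype_card, hc1, smul_eq_mul]
  -- the invariant part is small
  have hA := card_inter_lt L (fun x => B x x = a) (by simp [Ne.symm huu])
  have hUle : 2 * Nat.card ↥(((L : Set V) ×ˢ (L : Set V)) ∩ C) ≤ (Nat.card L - 1) * Nat.card L := by
    have e : Nat.card ↥(((L : Set V) ×ˢ (L : Set V)) ∩ C) ≤
        Nat.card ((x : {x : V // x ∈ L ∧ B x x = a}) × {z : V // z ∈ L ∧ B x.1 z = c}) :=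
      Nat.card_le_card_of_injective
        (fun p => ⟨⟨p.1.1, p.2.1.1, p.2.2.1⟩, p.1.2, p.2.1.2, p.2.2.2.1⟩) fun p p' e' => by
          have h1 := congrArg (fun s => (s.1.1, s.2.1)) e'
          exact Subtype.ext h1
    refine le_trans (Nat.mul_le_mul_left _ e) ?_
    rw [Nat.card_sigma, Finset.mul_sum]
    refine le_trans (Finset.sum_le_sum fun x _ => card_fibre_le L (x := x.1) (z0 := x.1) x.2.1
      (by rw [x.2.2]; exact huu) c) ?_
    rw [Finset.sum_const, Finset.card_univ, ← Nat.card_eq_fintype_card, smul_eq_mul]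
    exact Nat.mul_le_mul_right _ (by omega)
  calc _ ≤ 2 * (J.index * Nat.card ↥(((L : Set V) ×ˢ (L : Set V)) ∩ C)) :=
        Nat.mul_le_mul_left _ (hCge.trans hcount)
    _ = J.index * (2 * Nat.card ↥(((L : Set V) ×ˢ (L : Set V)) ∩ C)) := by ring
    _ ≤ _ := Nat.mul_le_mul_left _ hUle

/-- Only one anisotropic direction. -/
theorem bound_line {u : V} (hu : u ∈ L) (huu : B u u ≠ 0) (hline : ∀ v ∈ L, v = (B u v / B u u) • u) :
    ∃ s, Nat.card (Herm.fixField θ) ^ 3 * (Nat.card (Herm.fixField θ) ^ 4 - 1) ≤ J.index * s ∧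
      s + 1 ≤ Nat.card L ∧ s ≤ Nat.card (Herm.fixField θ) + 1 := by
  have : Finite V := Module.finite_of_finite F
  refine ⟨Nat.card {x : V // x ∈ L ∧ B x x = B u u}, ?_, card_inter_lt L _ (by simp [Ne.symm huu]), ?_⟩
  · refine le_trans ?_ (orbit_count (C := {x | B x x = B u u}) (U := (L : Set V))
      (fun g x hx => by show B _ _ = _; rw [g.2.1]; exact hx)
      (fun x hx z hz => trans_aniso h (by omega) (by rw [hz]; exact huu) (hx.trans hz.symm)) J hinv ⟨u, hu, rfl⟩)
    exact (card_aniso (k := 2) h hd (Herm.fix_self h u) huu).ge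
  · have key : ∀ x : {x : V // x ∈ L ∧ B x x = B u u}, ∃ z : (Herm.normHom θ).ker,
        x.1 = ((z : Fˣ) : F) • u := by
      rintro ⟨x, hx, hxx⟩
      have hxu := hline x hx
      set r := B u x / B u u with hr
      rw [hxu, Herm.smul_self h] at hxx
      have hr1 : r * θ r = 1 := mul_right_cancel₀ huu (hxx.trans (one_mul _).symm)
      exact ⟨⟨Units.mk0 r (left_ne_zero_of_mul_eq_one hr1), Units.ext (by rw [Herm.normHom_coe]; exact hr1)⟩, hxu⟩
    choose f hf using key
    rw [← Herm.card_ker_normHom h.toIsInvol]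
    exact Nat.card_le_card_of_injective f fun x x' e => Subtype.ext (by rw [hf x, hf x', e])

end Cfsg.Agent.MinIndexForm.SUE
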