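import Cfsg.Agent.MinIndexForm.SUE.FourIso

/-!
The index of the stabiliser of a small additive subgroup in dimension four.
-/

set_option autoImplicit false

namespace Cfsg.Agent.MinIndexForm.SUE

open Cfsg.Agent.Classical Cfsg.Agent.MinIndexForm.SU Module

universe uF uV
variable {F : Type uF} {V : Type uV} [Field F] [AddCommGroup V] [Module F V] {θ : F →+* F}
  {B : V →ₛₗ[θ] V →ₗ[F] F} [Finite F] [FiniteDimensional F V]

theorem num_pair {q i w : ℕ} (P : ℕ) (hP : 0 < P) (hw1 : 1 ≤ w) (hw : w ≤ q ^ 4) (hq : 3 ≤ q)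
    (h : (q ^ 4 - 1) * P ≤ i * ((w - 1) * w)) : P ≤ i * w ∧ P ≤ i * q ^ 4 := by
  have h4 : 1 < q ^ 4 := Nat.one_lt_pow (by norm_num) (by omega)
  have h1 : P ≤ i * w := by
    refine Nat.le_of_mul_le_mul_left ?_ (show 0 < q ^ 4 - 1 by omega)
    refine h.trans ?_
    calc i * ((w - 1) * w) ≤ i * ((q ^ 4 - 1) * w) := by gcongr
      _ = (q ^ 4 - 1) * (i * w) := by ring
  exact ⟨h1, h1.trans (Nat.mul_le_mul_left _ hw)⟩

/-- A subgroup preserving a small additive subgroup of vectors. -/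
theorem index_four (h : Herm.IsHerm B) (hd : finrank F V = 4) (hq3 : 3 ≤ Nat.card (Herm.fixField θ))
    (J : Subgroup (Herm.suG B)) (L : AddSubgroup V) (hinv : ∀ g ∈ J, ∀ x ∈ L, g.1 x ∈ L) (hne : L ≠ ⊥)
    (hsmall : Nat.card L ≤ Nat.card (Herm.fixField θ) ^ 4) :
    Nat.card (Herm.fixField θ) ^ 4 + Nat.card (Herm.fixField θ) ^ 2 + 2 ≤ J.index ∧
      Nat.card (Herm.fixField θ) ^ 2 * Ne (Nat.card (Herm.fixField θ)) 2 ≤ J.index * Nat.card L := by
  classical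
  have : Finite V := Module.finite_of_finite F
  set q := Nat.card (Herm.fixField θ) with hqd
  have hq2 : 9 ≤ q ^ 2 := Nat.pow_le_pow_left hq3 2
  have h4 : q ^ 4 = q ^ 2 * q ^ 2 := by ring
  have hN2 : Ne q 2 = (q ^ 3 + 1) * (q ^ 2 + 1) := Ne_two q
  have hfac : q ^ 4 - 1 = (q ^ 2 + 1) * (q ^ 2 - 1) := by
    obtain ⟨r, hr⟩ : ∃ r, q ^ 2 = r + 1 := ⟨q ^ 2 - 1, by omega⟩
    rw [h4, hr, Nat.add_sub_cancel]
    rw [show (r + 1) * (r + 1) = (r + 1 + 1) * r + 1 by ring, Nat.add_sub_cancel]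
  by_cases hA : ∃ u ∈ L, B u u ≠ 0
  · obtain ⟨u, hu, huu⟩ := hA
    by_cases hv : ∃ v ∈ L, v - (B u v / B u u) • u ≠ 0
    · obtain ⟨v, hv, hv'⟩ := hv
      have hb := bound_aniso h hd J L hinv hu huu hv hv'
      rw [← hqd] at hb
      obtain ⟨h1, h2⟩ := num_pair (2 * q ^ 3 * ((q ^ 3 + 1) * (q ^ 2 - 1))) (by
        have : 0 < q ^ 2 - 1 := by omega
        positivity) Nat.card_pos hsmall hq3 (le_trans (le_of_eq (by ring)) hb)
      have hP : q * (q ^ 4 + q ^ 2 + 2) ≤ 2 * ((q ^ 3 + 1) * (q ^ 2 - 1)) := by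
        calc q * (q ^ 4 + q ^ 2 + 2) ≤ q * (2 * (q ^ 2 * (q ^ 2 - 1))) := by
              gcongr
              rw [Nat.mul_sub, mul_one, ← h4]
              nlinarith [Nat.sub_add_cancel (show q ^ 2 ≤ q ^ 4 from Nat.pow_le_pow_right (by omega) (by omega))]
          _ = 2 * (q ^ 3 * (q ^ 2 - 1)) := by ring
          _ ≤ _ := by gcongr; omega
      refine ⟨Nat.le_of_mul_le_mul_right ?_ (show 0 < q ^ 4 by positivity), le_trans ?_ h1⟩
      · calc (q ^ 4 + q ^ 2 + 2) * q ^ 4 = q ^ 3 * (q * (q ^ 4 + q ^ 2 + 2)) := by ring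
          _ ≤ q ^ 3 * (2 * ((q ^ 3 + 1) * (q ^ 2 - 1))) := Nat.mul_le_mul_left _ hP
          _ = 2 * q ^ 3 * ((q ^ 3 + 1) * (q ^ 2 - 1)) := by ring
          _ ≤ _ := h2
      · calc q ^ 2 * Ne q 2 = q ^ 2 * (q ^ 3 + 1) * (q ^ 2 + 1) := by rw [hN2]; ring
          _ ≤ q ^ 2 * (q ^ 3 + 1) * (2 * q * (q ^ 2 - 1)) := by
              refine Nat.mul_le_mul_left _ ?_
              have : 6 * (q ^ 2 - 1) ≤ 2 * q * (q ^ 2 - 1) := Nat.mul_le_mul_right _ (by omega)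
              omega
          _ = _ := by ring
    · push Not at hv
      obtain ⟨s, hs1, hs2, hs3⟩ := bound_line h hd J L hinv hu huu fun v hv' => sub_eq_zero.1 (hv v hv')
      rw [← hqd] at hs1 hs3
      have hqq : q + 1 ≤ q * (q - 1) := by
        have : q * 2 ≤ q * (q - 1) := Nat.mul_le_mul_left _ (by omega)
        omega
      have hT : q ^ 4 + q ^ 2 + 2 ≤ J.index := by
        refine Nat.le_of_mul_le_mul_right ?_ (show 0 < q + 1 by omega)
        refine le_trans ?_ (hs1.trans (Nat.mul_le_mul_left _ hs3))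
        calc (q ^ 4 + q ^ 2 + 2) * (q + 1) ≤ (2 * q ^ 4) * (2 * q) := by gcongr <;> nlinarith
          _ ≤ q ^ 3 * (4 * q ^ 2) := le_of_eq (by ring)
          _ ≤ q ^ 3 * (q ^ 4 - 1) := by
              refine Nat.mul_le_mul_left _ ?_
              have : 9 * q ^ 2 ≤ q ^ 4 := by rw [h4]; exact Nat.mul_le_mul_right _ hq2
              omega
      refine ⟨hT, ?_⟩
      rcases Nat.eq_zero_or_pos s with hs0 | hs0
      · rw [hs0, mul_zero] at hs1
        have : 0 < q ^ 3 * (q ^ 4 - 1) := Nat.mul_pos (by positivity) (by rw [hfac]; exact Nat.mul_pos (Nat.succ_pos _) (by omega))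
        omega
      refine Nat.le_of_mul_le_mul_right ?_ hs0
      have hcore : (q ^ 3 + 1) * s ≤ q * (q ^ 2 - 1) * Nat.card L := by
        obtain ⟨r, hr⟩ : ∃ r, q = r + 1 := ⟨q - 1, by omega⟩
        rw [hr] at hqq hs3 ⊢
        rw [Nat.add_sub_cancel] at hqq
        rw [show (r + 1) ^ 2 - 1 = (r + 2) * r by rw [show (r + 1) ^ 2 = (r + 2) * r + 1 by ring, Nat.add_sub_cancel]]
        calc ((r + 1) ^ 3 + 1) * s = (r + 2) * (((r + 1) * r + 1) * s) := by ring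
          _ ≤ (r + 2) * ((r + 1) * r * (s + 1)) := Nat.mul_le_mul_left _ (by nlinarith)
          _ ≤ (r + 2) * ((r + 1) * r * Nat.card L) := by gcongr
          _ = _ := by ring
      calc q ^ 2 * Ne q 2 * s = q ^ 2 * (q ^ 2 + 1) * ((q ^ 3 + 1) * s) := by rw [hN2]; ring
        _ ≤ q ^ 2 * (q ^ 2 + 1) * (q * (q ^ 2 - 1) * Nat.card L) := Nat.mul_le_mul_left _ hcore
        _ = Nat.card L * (q ^ 3 * (q ^ 4 - 1)) := by rw [hfac]; ring
        _ ≤ Nat.card L * (J.index * s) := Nat.mul_le_mul_left _ hs1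
        _ = _ := by ring
  push Not at hA
  by_cases hB : ∃ u ∈ L, ∃ v ∈ L, B u v ≠ 0
  · obtain ⟨u, hu, v, hv, huv⟩ := hB
    have hb := bound_pair h hd J L hinv hu (hA u hu) hv (hA v hv) huv
    rw [← hqd, hN2] at hb
    obtain ⟨h1, h2⟩ := num_pair (2 * q ^ 5 * (q ^ 3 + 1)) (by positivity) Nat.card_pos hsmall hq3
      (le_trans (le_of_eq (by rw [hfac]; ring)) hb)
    refine ⟨Nat.le_of_mul_le_mul_right ?_ (show 0 < q ^ 4 by positivity), le_trans ?_ h1⟩
    · calc (q ^ 4 + q ^ 2 + 2) * q ^ 4 ≤ (2 * (q ^ 4 + q)) * q ^ 4 := by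
            gcongr
            nlinarith
        _ = 2 * q ^ 5 * (q ^ 3 + 1) := by ring
        _ ≤ _ := h2
    · calc q ^ 2 * Ne q 2 = q ^ 2 * (q ^ 3 + 1) * (q ^ 2 + 1) := by rw [hN2]; ring
        _ ≤ q ^ 2 * (q ^ 3 + 1) * (2 * q ^ 3) := by
            refine Nat.mul_le_mul_left _ ?_
            nlinarith
        _ = _ := by ring
  push Not at hB
  obtain ⟨u, hu, hu0⟩ : ∃ u ∈ L, u ≠ 0 := by
    by_contra hc; push Not at hc; exact hne ((AddSubgroup.eq_bot_iff_forall _).2 hc)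
  have hw1 : 1 ≤ Nat.card L := Nat.card_pos
  have hmain : ∀ m, Ne q 2 * (q ^ 2 - 1) * m ≤ J.index * (Nat.card L - 1) →
      Ne q 2 * (q ^ 2 - 1) * m + J.index ≤ J.index * Nat.card L := fun m hm => by
    refine (Nat.add_le_add_right hm _).trans ?_
    rw [← Nat.mul_succ, Nat.succ_eq_add_one, Nat.sub_add_cancel hw1]
  have hN : q ^ 2 * Ne q 2 = Ne q 2 * (q ^ 2 - 1) + Ne q 2 := by
    rw [Nat.mul_sub, mul_one, Nat.sub_add_cancel (Nat.le_mul_of_pos_right _ (by omega)), mul_comm]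
  by_cases hl : ∀ v ∈ L, ∃ a : F, v = a • u
  · choose f hf using hl
    have hw : Nat.card L ≤ q ^ 2 := by
      rw [← Herm.card_eq_fix_sq h.toIsInvol]
      exact Nat.card_le_card_of_injective (fun x : L => f x.1 x.2) fun x z e => Subtype.ext (by
        rw [hf x.1 x.2, hf z.1 z.2]; exact congrArg (· • u) e)
    have h1 := orbit_count (C := {x | x ≠ 0 ∧ B x x = 0}) (U := (L : Set V)) (fun g x hx => norm_inv _ g hx)
      (fun x hx z hz => trans_iso h (by omega) hx.1 hx.2 hz.1 hz.2) J hinv ⟨u, hu, hu0, hA u hu⟩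
    have h2 : Nat.card ↥((L : Set V) ∩ {x | x ≠ 0 ∧ B x x = 0}) ≤ Nat.card L - 1 := by
      have := card_inter_lt L (fun x => x ≠ 0 ∧ B x x = 0) (fun h0 => h0.1 rfl)
      have e : Nat.card ↥((L : Set V) ∩ {x | x ≠ 0 ∧ B x x = 0}) = Nat.card {x : V // x ∈ L ∧ x ≠ 0 ∧ B x x = 0} := rfl
      omega
    have h3 : Ne q 2 * (q ^ 2 - 1) * 1 ≤ J.index * (Nat.card L - 1) := by
      rw [mul_one]
      exact (card_iso (k := 2) h hd).symm.le.trans (h1.trans (Nat.mul_le_mul_left _ h2))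
    have hNi : Ne q 2 ≤ J.index := by
      refine Nat.le_of_mul_le_mul_right ?_ (show 0 < q ^ 2 - 1 by omega)
      rw [mul_one] at h3
      exact h3.trans (Nat.mul_le_mul_left _ (by omega))
    refine ⟨le_trans ?_ hNi, ?_⟩
    · rw [hN2]; nlinarith
    · have := hmain 1 h3
      rw [mul_one] at this
      omega
  · push Not at hl
    obtain ⟨v, hv, hline⟩ := hl
    have h3 := bound_plane h hd J L hinv hu hu0 hv hline hB
    rw [← hqd] at h3
    have hT : (q ^ 3 + 1) * (q + 1) ≤ J.index := by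
      refine Nat.le_of_mul_le_mul_right ?_ (show 0 < q ^ 4 - 1 by rw [hfac]; exact Nat.mul_pos (Nat.succ_pos _) (by omega))
      calc (q ^ 3 + 1) * (q + 1) * (q ^ 4 - 1) = Ne q 2 * (q ^ 2 - 1) * (q + 1) := by rw [hN2, hfac]; ring
        _ ≤ _ := h3.trans (Nat.mul_le_mul_left _ (by omega))
    refine ⟨le_trans (by nlinarith) hT, ?_⟩
    have := hmain _ h3
    have h5 : Ne q 2 * (q ^ 2 - 1) * 2 ≤ Ne q 2 * (q ^ 2 - 1) * (q + 1) := Nat.mul_le_mul_left _ (by omega)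
    have h6 : Ne q 2 ≤ Ne q 2 * (q ^ 2 - 1) := Nat.le_mul_of_pos_right _ (by omega)
    omega

end Cfsg.Agent.MinIndexForm.SUE
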