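import Cfsg.Agent.MinIndexForm.SUE.Four

/-!
Invariant additive subgroups made of isotropic vectors, and the four-dimensional bound.
-/

set_option autoImplicit false

namespace Cfsg.Agent.MinIndexForm.SUE

open Cfsg.Agent.Classical Cfsg.Agent.MinIndexForm.SU Module

universe uF uV
variable {F : Type uF} {V : Type uV} [Field F] [AddCommGroup V] [Module F V] {θ : F →+* F}
  {B : V →ₛₗ[θ] V →ₗ[F] F} [Finite F] [FiniteDimensional F V]

/-- In dimension four, vectors orthogonal to an isotropic line and to a second one in it lie in their plane. -/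
theorem mem_plane (τ : Fr B) (hdW : finrank F τ.W = 2) {v x : V} (hv : B v v = 0) (hyv : B τ.y v = 0)
    (hv0 : τ.pr v ≠ 0) (hx : B x x = 0) (hyx : B τ.y x = 0) (hvx : B v x = 0) :
    ∃ a b : F, x = a • τ.y + b • v := by
  have hpr : ∀ s t : V, B τ.y s = 0 → B τ.y t = 0 → B (τ.pr s : V) (τ.pr t : V) = B s t := fun s t hs ht => by
    rw [τ.B_decomp s t, hs, ht, map_zero, mul_zero, zero_mul, add_zero, add_zero]
  obtain ⟨ρ, hρ⟩ := exists_frame τ.hB_W hv0 (show τ.BW (τ.pr v) (τ.pr v) = 0 by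
    rw [τ.BW_apply, hpr v v hyv hyv, hv])
  have hρW : finrank F ρ.W = 0 := by have := ρ.finrank_W; omega
  have : Subsingleton ρ.W := Module.finrank_zero_iff.1 hρW
  have h1 : τ.BW ρ.y (τ.pr x) = 0 := by rw [hρ, τ.BW_apply, hpr v x hyv hyx, hvx]
  have hd := ρ.decomp (τ.pr x)
  rw [h1, zero_smul, add_zero, Subsingleton.elim (ρ.pr (τ.pr x)) 0, Submodule.coe_zero, zero_add, hρ] at hd
  refine ⟨B τ.f x - τ.BW ρ.f (τ.pr x) * B τ.f v, τ.BW ρ.f (τ.pr x), ?_⟩
  have e1 := τ.decomp x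
  rw [hyx, zero_smul, add_zero] at e1
  have hd' := congrArg Subtype.val hd
  rw [Submodule.coe_smul, τ.pr_coe v, hyv, zero_smul, sub_zero] at hd'
  conv_lhs => rw [e1, hd']
  module

/-- Moving an isotropic line inside the orthogonal of a fixed isotropic vector. -/
theorem stab_trans_perp (τ : Fr B) {z z' : V} (hz : B z z = 0) (hyz : B τ.y z = 0) (hz0 : τ.pr z ≠ 0)
    (hz' : B z' z' = 0) (hyz' : B τ.y z' = 0) (hz0' : τ.pr z' ≠ 0) :
    ∃ (g : Herm.suG B) (a : F), a ≠ 0 ∧ g.1 τ.y = τ.y ∧ g.1 z = a • z' := by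
  have hnorm : ∀ {s : V}, B s s = 0 → B τ.y s = 0 → τ.BW (τ.pr s) (τ.pr s) = 0 := fun {s} hs hys => by
    rw [τ.B_decomp s s, hys, map_zero, mul_zero, zero_mul, add_zero, add_zero] at hs
    exact hs
  have := Herm.isPretransitive_suG τ.hB_W
  obtain ⟨l, hl⟩ := MulAction.exists_smul_eq (Herm.suG τ.BW) (Herm.pt (τ.pr z) hz0 (hnorm hz hyz))
    (Herm.pt (τ.pr z') hz0' (hnorm hz' hyz'))
  rw [Herm.smul_pt, Herm.pt_eq_iff] at hl
  obtain ⟨a, ha⟩ := hl
  have ha0 : a ≠ 0 := fun h0 => hz0 (l.1.map_eq_zero_iff.1 (by rw [← ha, h0, zero_smul]))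
  obtain ⟨p, hp⟩ := Herm.exists_pairing τ.hB_W hz0'
  set t := B τ.f z / a - B τ.f z' with ht
  have hs : B ((θ t • p : τ.W) : V) (τ.pr z' : V) = t := by
    have hp' : B (p : V) (τ.pr z' : V) = 1 := by rw [← τ.hB.symm, ← τ.BW_apply, hp, map_one]
    rw [Submodule.coe_smul, map_smulₛₗ, LinearMap.smul_apply, τ.hB.invol, hp', smul_eq_mul, mul_one]
  obtain ⟨d, hd⟩ := τ.exists_vec (θ t • p)
  refine ⟨τ.sh _ d hd * τ.emb l, a, ha0, ?_, ?_⟩
  · rw [Subgroup.coe_mul, LinearEquiv.mul_apply, τ.emb_y, τ.sh_y]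
  · have e1 := τ.decomp z
    have e2 := τ.decomp z'
    rw [hyz, zero_smul, add_zero] at e1
    rw [hyz', zero_smul, add_zero] at e2
    rw [Subgroup.coe_mul, LinearEquiv.mul_apply]
    conv_lhs => rw [e1]
    rw [map_add, map_smul, τ.emb_y, τ.emb_W, ← ha, Submodule.coe_smul, map_add, map_smul, map_smul, τ.sh_y,
      τ.sh_W, hs]
    conv_rhs => rw [e2]
    rw [ht]
    match_scalars <;> field_simp <;> ring

theorem card_W_iso (τ : Fr B) (hdW : finrank F τ.W = 2) :
    Nat.card (Herm.fixField θ) + 1 ≤ Nat.card (Herm.Iso τ.BW) := by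
  classical
  have : Finite τ.W := Module.finite_of_finite F
  have : Finite (Projectivization F τ.W) :=
    Finite.of_surjective _ (Quotient.mk_surjective (s := projectivizationSetoid F τ.W))
  have : Finite (Herm.Iso τ.BW) := Finite.of_injective (fun p => p.1) Subtype.val_injective
  set q := Nat.card (Herm.fixField θ) with hq
  have h1 := card_iso (k := 1) τ.hB_W (by omega)
  rw [← hq] at h1
  have hu := card_units_sq (θ := θ) τ.hB.toIsInvol
  rw [← hq] at hu
  have h2 : Nat.card {x : τ.W // x ≠ 0 ∧ τ.BW x x = 0} ≤ Nat.card (Herm.Iso τ.BW × Fˣ) :=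
    Nat.card_le_card_of_surjective (fun p => ⟨(p.2 : F) • p.1.1.rep,
      smul_ne_zero p.2.ne_zero p.1.1.rep_nonzero, by rw [Herm.smul_self τ.hB_W, p.1.2, mul_zero]⟩) fun x => by
        obtain ⟨a, ha⟩ := (Herm.pt_eq_iff x.2.1 x.2.2 (Herm.pt x.1 x.2.1 x.2.2).1.rep_nonzero
          (Herm.pt x.1 x.2.1 x.2.2).2).1 (Subtype.ext (Projectivization.mk_rep _).symm)
        refine ⟨(Herm.pt x.1 x.2.1 x.2.2, Units.mk0 a fun h0 => x.2.1 ?_), Subtype.ext ha⟩
        rw [← ha, h0, zero_smul]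
  rw [h1, Nat.card_prod, show Nat.card Fˣ = q ^ 2 - 1 by omega] at h2
  have h3 : Ne q 1 = q + 1 := by simp [Ne]
  rw [h3] at h2
  have : 2 ^ 2 ≤ q ^ 2 := Nat.pow_le_pow_left (two_le_fix τ.hB.toIsInvol) 2
  exact Nat.le_of_mul_le_mul_right h2 (by omega)

variable (h : Herm.IsHerm B) (hd : finrank F V = 4) (J : Subgroup (Herm.suG B)) (L : AddSubgroup V)
  (hinv : ∀ g ∈ J, ∀ x ∈ L, g.1 x ∈ L)
include h hd hinv

/-- Two non-orthogonal isotropic vectors. -/
theorem bound_pair {u v : V} (hu : u ∈ L) (huu : B u u = 0) (hv : v ∈ L) (hvv : B v v = 0) (huv : B u v ≠ 0) :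
    2 * (Ne (Nat.card (Herm.fixField θ)) 2 * (Nat.card (Herm.fixField θ) ^ 2 - 1) *
        Nat.card (Herm.fixField θ) ^ 5) ≤ J.index * ((Nat.card L - 1) * Nat.card L) := by
  classical
  have : Finite V := Module.finite_of_finite F
  have := Fr.finite_su (B := B)
  have : Fintype V := Fintype.ofFinite V
  set q := Nat.card (Herm.fixField θ) with hq
  set c := B u v with hc
  have hu0 : u ≠ 0 := fun h0 => huv (by rw [hc, h0]; simp)
  set C : Set (V × V) := {p | (p.1 ≠ 0 ∧ B p.1 p.1 = 0) ∧ B p.2 p.2 = 0 ∧ B p.1 p.2 = c} with hC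
  have hcount := orbit_count_gen (G := Herm.suG B) (fun g p => ((g.1 p.1, g.1 p.2) : V × V)) (fun _ => rfl)
    (fun _ _ _ => rfl) (C := C) (U := (L : Set V) ×ˢ (L : Set V))
    (fun g p hp => ⟨norm_inv _ g hp.1, by rw [g.2.1]; exact hp.2.1, by rw [g.2.1]; exact hp.2.2⟩)
    (fun p hp p' hp' => by
      obtain ⟨g, hg⟩ := trans_iso h (by omega) hp.1.1 hp.1.2 hp'.1.1 hp'.1.2
      obtain ⟨g', hg1, hg2⟩ := Herm.stab_trans h (e := p'.1) (f := c⁻¹ • g.1 p.2) (f' := c⁻¹ • p'.2) hp'.1.2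
        (by rw [Herm.smul_self h, g.2.1, hp.2.1, mul_zero])
        (by rw [map_smul, ← hg, g.2.1, hp.2.2, smul_eq_mul, inv_mul_cancel₀ huv])
        (by rw [Herm.smul_self h, hp'.2.1, mul_zero])
        (by rw [map_smul, hp'.2.2, smul_eq_mul, inv_mul_cancel₀ huv])
      refine ⟨g' * g, Prod.ext ?_ ?_⟩
      · show (g' * g).1 p.1 = p'.1
        rw [Subgroup.coe_mul, LinearEquiv.mul_apply, hg, hg1]
      · show (g' * g).1 p.2 = p'.2
        rw [map_smul] at hg2
        rw [Subgroup.coe_mul, LinearEquiv.mul_apply]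
        exact smul_right_injective V (inv_ne_zero huv) hg2)
    J (fun g hg p hp => ⟨hinv g hg _ hp.1, hinv g hg _ hp.2⟩) ⟨(u, v), ⟨hu, hv⟩, ⟨hu0, huu⟩, hvv, rfl⟩
  have hfib : ∀ x : {x : V // x ≠ 0 ∧ B x x = 0}, q ^ 5 ≤ Nat.card {z : V // (x.1, z) ∈ C} := by
    rintro ⟨x, hx0, hxx⟩
    obtain ⟨τ, rfl⟩ := exists_frame h hx0 hxx
    choose d hdd using fun w : τ.W => τ.exists_vec w
    have hcard : Nat.card (τ.W × skew θ) = q ^ 5 := by
      rw [Nat.card_prod, τ.card_W (m := 2) (by have := τ.finrank_W; omega), card_skew h.toIsInvol, ← pow_succ]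
    rw [← hcard]
    refine Nat.card_le_card_of_injective (fun p => ⟨c • (τ.f + (p.1 : V) + (d p.1 + p.2) • τ.y), ⟨hx0, hxx⟩, ?_, ?_⟩) ?_
    · rw [Herm.smul_self h]
      convert mul_zero (c * θ c) using 2
      have h1 := hdd p.1
      have h2 := mem_skew.1 p.2.2
      simp [τ.hff, τ.hyy, τ.hfy, τ.hyf, τ.By, τ.Bf, τ.Bwy, τ.Bwf]
      linear_combination h1 + h2
    · simp [τ.hyy, τ.hyf, τ.By]
    · rintro ⟨w, k⟩ ⟨w', k'⟩ e
      have e' := smul_right_injective V huv (congrArg Subtype.val e)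
      have e1 := congrArg τ.pr e'
      simp [τ.pr_f, τ.pr_y, τ.pr_W] at e1
      subst e1
      have e2 := smul_left_injective F τ.y_ne (add_left_cancel e')
      exact Prod.ext rfl (Subtype.ext (add_left_cancel e2))
  have hCge : Ne q 2 * (q ^ 2 - 1) * q ^ 5 ≤ Nat.card C := by
    have e : Nat.card C = Nat.card ((x : {x : V // x ≠ 0 ∧ B x x = 0}) × {z : V // (x.1, z) ∈ C}) :=
      Nat.card_congr
        { toFun := fun p => ⟨⟨p.1.1, p.2.1⟩, p.1.2, p.2⟩
          invFun := fun s => ⟨(s.1.1, s.2.1), s.2.2⟩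
          left_inv := fun p => rfl
          right_inv := fun s => rfl }
    rw [e, Nat.card_sigma]
    refine le_trans ?_ (Finset.sum_le_sum fun x _ => hfib x)
    rw [Finset.sum_const, Finset.card_univ, ← Nat.card_eq_fintype_card, card_iso (k := 2) h hd, smul_eq_mul]
  have hA := card_inter_lt L (fun x => x ≠ 0 ∧ B x x = 0) (fun h0 => h0.1 rfl)
  have hUle : 2 * Nat.card ↥(((L : Set V) ×ˢ (L : Set V)) ∩ C) ≤ (Nat.card L - 1) * Nat.card L := by
    have e : Nat.card ↥(((L : Set V) ×ˢ (L : Set V)) ∩ C) ≤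
        Nat.card ((x : {x : V // x ∈ L ∧ x ≠ 0 ∧ B x x = 0}) × {z : V // z ∈ L ∧ B x.1 z = c}) :=
      Nat.card_le_card_of_injective
        (fun p => ⟨⟨p.1.1, p.2.1.1, p.2.2.1⟩, p.1.2, p.2.1.2, p.2.2.2.2⟩) fun p p' e' => by
          have h1 := congrArg (fun s => (s.1.1, s.2.1)) e'
          exact Subtype.ext h1
    refine le_trans (Nat.mul_le_mul_left _ e) ?_
    rw [Nat.card_sigma, Finset.mul_sum]
    refine le_trans (Finset.sum_le_card_nsmul _ _ (Nat.card L) fun x _ => ?_) ?_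
    · by_cases hz : ∃ z ∈ L, B x.1 z ≠ 0
      · obtain ⟨z, hz, hzne⟩ := hz
        exact card_fibre_le L hz hzne c
      · push Not at hz
        have : IsEmpty {z : V // z ∈ L ∧ B x.1 z = c} := ⟨fun z => huv (z.2.2.symm.trans (hz _ z.2.1))⟩
        simp
    · rw [Finset.card_univ, ← Nat.card_eq_fintype_card, smul_eq_mul]
      exact Nat.mul_le_mul_right _ (by omega)
  calc _ ≤ 2 * (J.index * Nat.card ↥(((L : Set V) ×ˢ (L : Set V)) ∩ C)) :=
        Nat.mul_le_mul_left _ (hCge.trans hcount)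
    _ = J.index * (2 * Nat.card ↥(((L : Set V) ×ˢ (L : Set V)) ∩ C)) := by ring
    _ ≤ _ := Nat.mul_le_mul_left _ hUle

omit h hd hinv in
theorem finite_submodule : Finite (Submodule F V) := by
  have : Finite V := Module.finite_of_finite F
  exact Finite.of_injective (fun M : Submodule F V => (M : Set V)) SetLike.coe_injective

/-- A totally isotropic plane. -/
theorem bound_plane {u v : V} (hu : u ∈ L) (hu0 : u ≠ 0) (hv : v ∈ L) (hline : ∀ a : F, v ≠ a • u)
    (hti : ∀ x ∈ L, ∀ z ∈ L, B x z = 0) :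
    Ne (Nat.card (Herm.fixField θ)) 2 * (Nat.card (Herm.fixField θ) ^ 2 - 1) *
      (Nat.card (Herm.fixField θ) + 1) ≤ J.index * (Nat.card L - 1) := by
  classical
  have : Finite V := Module.finite_of_finite F
  have : Finite (Submodule F V) := finite_submodule
  have := Fr.finite_su (B := B)
  have : Fintype V := Fintype.ofFinite V
  set q := Nat.card (Herm.fixField θ) with hq
  set ℓ := Submodule.span F (L : Set V) with hℓ
  set C : Set (V × Submodule F V) := {p | (p.1 ≠ 0 ∧ B p.1 p.1 = 0) ∧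
    ∃ z, B z z = 0 ∧ B p.1 z = 0 ∧ (∀ a : F, z ≠ a • p.1) ∧ p.2 = Submodule.span F {z}} with hC
  set U : Set (V × Submodule F V) := {p | p.1 ∈ L ∧ p.2 ≤ ℓ} with hU
  have hpr : ∀ (τ : Fr B) {z : V}, B τ.y z = 0 → (∀ a : F, z ≠ a • τ.y) → τ.pr z ≠ 0 := fun τ z hyz hne h0 =>
    hne (B τ.f z) (by conv_lhs => rw [τ.decomp z, h0, hyz, zero_smul, Submodule.coe_zero, zero_add, add_zero])
  have hinvC : ∀ (g : Herm.suG B), ∀ p ∈ C, (g.1 p.1, p.2.map (g.1 : V →ₗ[F] V)) ∈ C := by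
    rintro g p ⟨hp, z, hz, hpz, hne, hM⟩
    refine ⟨norm_inv _ g hp, g.1 z, by rw [g.2.1]; exact hz, by rw [g.2.1]; exact hpz, fun a e => hne a ?_, ?_⟩
    · rw [← map_smul] at e; exact g.1.injective e
    · rw [hM, Submodule.map_span, Set.image_singleton]; rfl
  have hcount := orbit_count_gen (G := Herm.suG B)
    (fun g p => ((g.1 p.1, p.2.map (g.1 : V →ₗ[F] V)) : V × Submodule F V))
    (fun p => Prod.ext rfl (Submodule.map_id p.2))
    (fun g g' p => Prod.ext rfl (by rw [← Submodule.map_comp]; rfl))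
    (C := C) (U := U) hinvC
    (fun p hp p' hp' => by
      obtain ⟨hp, z, hz, hpz, hne, hM⟩ := hp
      obtain ⟨hp', z', hz', hpz', hne', hM'⟩ := hp'
      obtain ⟨g, hg⟩ := trans_iso h (by omega) hp.1 hp.2 hp'.1 hp'.2
      obtain ⟨τ, hτ⟩ := exists_frame h hp'.1 hp'.2
      obtain ⟨g', a, ha0, hg1, hg2⟩ := stab_trans_perp τ (z := g.1 z) (z' := z') (by rw [g.2.1]; exact hz)
        (by rw [hτ, ← hg, g.2.1]; exact hpz)
        (hpr τ (by rw [hτ, ← hg, g.2.1]; exact hpz) fun b e => hne b (g.1.injective (by rw [map_smul, hg, e, hτ])))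
        hz' (by rw [hτ]; exact hpz') (hpr τ (by rw [hτ]; exact hpz') fun b e => hne' b (by rw [e, hτ]))
      refine ⟨g' * g, Prod.ext ?_ ?_⟩
      · show (g' * g).1 p.1 = p'.1
        rw [Subgroup.coe_mul, LinearEquiv.mul_apply, hg, ← hτ, hg1]
      · show p.2.map ((g' * g).1 : V →ₗ[F] V) = p'.2
        rw [hM, hM', Submodule.map_span, Set.image_singleton]
        show Submodule.span F {g'.1 (g.1 z)} = _
        rw [hg2]
        exact Submodule.span_singleton_smul_eq (isUnit_iff_ne_zero.2 ha0) z')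
    J (fun g hg p hp => ⟨hinv g hg _ hp.1, by
      refine (Submodule.map_mono hp.2).trans ?_
      rw [hℓ, Submodule.map_span]
      refine Submodule.span_mono ?_
      rintro _ ⟨x, hx, rfl⟩
      exact hinv g hg x hx⟩)
    ⟨(u, Submodule.span F {v}), ⟨hu, Submodule.span_mono (by simpa using hv)⟩, ⟨hu0, hti u hu u hu⟩, v,
      hti v hv v hv, hti u hu v hv, hline, rfl⟩
  have hfib : ∀ x : {x : V // x ≠ 0 ∧ B x x = 0}, q ^ 2 * (q + 1) ≤
      Nat.card {M : Submodule F V // (x.1, M) ∈ C} := by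
    rintro ⟨x, hx0, hxx⟩
    obtain ⟨τ, rfl⟩ := exists_frame h hx0 hxx
    have hdW : finrank F τ.W = 2 := by have := τ.finrank_W; omega
    refine le_trans ?_ (Nat.card_le_card_of_injective (α := F × Herm.Iso τ.BW)
      (fun p => ⟨Submodule.span F {(p.2.1.rep : V) + p.1 • τ.y}, ⟨hx0, hxx⟩, _, ?_, ?_, ?_, rfl⟩) ?_)
    · have : Finite τ.W := Module.finite_of_finite F
      rw [Nat.card_prod, Herm.card_eq_fix_sq h.toIsInvol]
      exact Nat.mul_le_mul_left _ (card_W_iso τ hdW)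
    · have : B (p.2.1.rep : V) (p.2.1.rep : V) = 0 := p.2.2
      simp [τ.hyy, τ.By, τ.Bwy, this]
    · simp [τ.hyy, τ.By]
    · intro a e
      have e1 := congrArg τ.pr e
      simp [τ.pr_y, τ.pr_W] at e1
      exact p.2.1.rep_nonzero e1
    · rintro ⟨r, p⟩ ⟨r', p'⟩ e
      have e' : Submodule.span F {(p.1.rep : V) + r • τ.y} = Submodule.span F {(p'.1.rep : V) + r' • τ.y} :=
        congrArg Subtype.val e
      have hm : (p.1.rep : V) + r • τ.y ∈ Submodule.span F {(p'.1.rep : V) + r' • τ.y} := by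
        rw [← e']
        exact Submodule.mem_span_singleton_self _
      obtain ⟨t, ht⟩ := Submodule.mem_span_singleton.1 hm
      have e1 := congrArg τ.pr ht
      simp [τ.pr_y, τ.pr_W] at e1
      have hp : p = p' := by
        refine Subtype.ext ?_
        rw [← p.1.mk_rep, ← p'.1.mk_rep, Projectivization.mk_eq_mk_iff']
        exact ⟨t, e1⟩
      subst hp
      have ht1 : t = 1 := smul_left_injective F p.1.rep_nonzero (show t • p.1.rep = (1 : F) • p.1.rep by
        rw [one_smul]; exact e1)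
      rw [ht1, one_smul] at ht
      exact Prod.ext (smul_left_injective F τ.y_ne (add_left_cancel ht)).symm rfl
  have hCge : Ne q 2 * (q ^ 2 - 1) * (q ^ 2 * (q + 1)) ≤ Nat.card C := by
    have e : Nat.card C = Nat.card ((x : {x : V // x ≠ 0 ∧ B x x = 0}) ×
        {M : Submodule F V // (x.1, M) ∈ C}) :=
      Nat.card_congr
        { toFun := fun p => ⟨⟨p.1.1, p.2.1⟩, p.1.2, p.2⟩
          invFun := fun s => ⟨(s.1.1, s.2.1), s.2.2⟩
          left_inv := fun p => rfl
          right_inv := fun s => rfl }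
    rw [e, Nat.card_sigma]
    refine le_trans ?_ (Finset.sum_le_sum fun x _ => hfib x)
    rw [Finset.sum_const, Finset.card_univ, ← Nat.card_eq_fintype_card, card_iso (k := 2) h hd, smul_eq_mul]
  -- the plane holds few points
  obtain ⟨τ, rfl⟩ := exists_frame h hu0 (hti u hu u hu)
  have hdW : finrank F τ.W = 2 := by have := τ.finrank_W; omega
  have hpv := hpr τ (hti _ hu v hv) hline
  have hplane : ∀ x ∈ L, ∃ a b : F, x = a • τ.y + b • v := fun x hx =>
    mem_plane τ hdW (hti v hv v hv) (hti _ hu v hv) hpv (hti x hx x hx) (hti _ hu x hx) (hti v hv x hx)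
  have hℓle : ℓ ≤ Submodule.span F {τ.y, v} := by
    refine Submodule.span_le.2 fun x hx => ?_
    obtain ⟨a, b, rfl⟩ := hplane x hx
    exact Submodule.mem_span_pair.2 ⟨a, b, rfl⟩
  have hUle : Nat.card ↥(U ∩ C) ≤ (Nat.card L - 1) * q ^ 2 := by
    have e : Nat.card ↥(U ∩ C) ≤ Nat.card ((x : {x : V // x ∈ L ∧ x ≠ 0}) ×
        {M : Submodule F V // M ≤ ℓ ∧ (x.1, M) ∈ C}) :=
      Nat.card_le_card_of_injective
        (fun p => ⟨⟨p.1.1, p.2.1.1, p.2.2.1.1⟩, p.1.2, p.2.1.2, p.2.2⟩) fun p p' e' => by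
          have h1 := congrArg (fun s => (s.1.1, s.2.1)) e'
          exact Subtype.ext h1
    refine e.trans ?_
    rw [Nat.card_sigma]
    refine le_trans (Finset.sum_le_card_nsmul _ _ (q ^ 2) ?_) ?_
    · rintro ⟨x, hxL, hx0⟩ -
      rw [← Herm.card_eq_fix_sq h.toIsInvol]
      obtain ⟨a, b, hab⟩ := hplane x hxL
      set w := if b = 0 then v else τ.y with hw
      have hwℓ : w ∈ ℓ := by
        rw [hw]; split_ifs <;> exact Submodule.subset_span (by assumption)
      have hxℓ : x ∈ ℓ := Submodule.subset_span hxL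
      have key : ∀ M : {M : Submodule F V // M ≤ ℓ ∧ (x, M) ∈ C}, ∃ s : F, M.1 = Submodule.span F {w + s • x} := by
        rintro ⟨M, hMℓ, -, z, -, -, hne, hM⟩
        have hM' : M = Submodule.span F {z} := hM
        have hzℓ : z ∈ Submodule.span F {τ.y, v} := hℓle (hMℓ (hM' ▸ Submodule.mem_span_singleton_self z))
        obtain ⟨c, d, hcd⟩ := Submodule.mem_span_pair.1 hzℓ
        obtain ⟨α, β, hz⟩ : ∃ α β : F, z = α • x + β • w := by
          by_cases hb : b = 0
          · have ha : a ≠ 0 := fun ha => hx0 (by rw [hab, ha, hb]; simp)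
            refine ⟨c / a, d, ?_⟩
            rw [← hcd, hw, if_pos hb, hab, hb, zero_smul, add_zero, smul_smul, div_mul_cancel₀ _ ha]
          · refine ⟨d / b, c - d / b * a, ?_⟩
            rw [← hcd, hw, if_neg hb, hab, smul_add, smul_smul, smul_smul, div_mul_cancel₀ _ hb]
            module
        have hβ : β ≠ 0 := fun h0 => hne α (by rw [hz, h0, zero_smul, add_zero])
        refine ⟨α / β, ?_⟩
        show M = _
        rw [hM', ← Submodule.span_singleton_smul_eq (isUnit_iff_ne_zero.2 hβ) (w + _), smul_add,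
          smul_smul, mul_div_cancel₀ _ hβ, hz, add_comm]
      choose f hf using key
      exact Nat.card_le_card_of_injective f fun M M' e' => Subtype.ext (by rw [hf M, hf M', e'])
    · rw [Finset.card_univ, ← Nat.card_eq_fintype_card, smul_eq_mul]
      exact Nat.mul_le_mul_right _ (by have := card_inter_lt L (fun x => x ≠ 0) (by simp); omega)
  have h2 : 0 < q ^ 2 := pow_pos (Nat.lt_of_lt_of_le two_pos (two_le_fix h.toIsInvol)) 2
  refine Nat.le_of_mul_le_mul_right ?_ h2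
  calc _ = Ne q 2 * (q ^ 2 - 1) * (q ^ 2 * (q + 1)) := by ring
    _ ≤ J.index * Nat.card ↥(U ∩ C) := hCge.trans hcount
    _ ≤ J.index * ((Nat.card L - 1) * q ^ 2) := Nat.mul_le_mul_left _ hUle
    _ = _ := by ring

end Cfsg.Agent.MinIndexForm.SUE
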