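import Cfsg.Agent.MinIndexForm.SUE.FourBound
import Cfsg.Agent.MinIndexForm.SU.Main

/-!
Lower bounds for orbits at a point in even dimension at least six.
-/

set_option autoImplicit false

namespace Cfsg.Agent.MinIndexForm.SUE

open Cfsg.Agent.Classical Cfsg.Agent.MinIndexForm.SU Module

universe uF uV
variable {F : Type uF} [Field F] [Finite F] {θ : F →+* F}

/-- An additive subgroup whose non-zero elements all have one non-zero norm is tiny. -/
theorem card_one_norm {V : Type uV} [AddCommGroup V] [Module F V] {B : V →ₛₗ[θ] V →ₗ[F] F}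
    [FiniteDimensional F V] (U : AddSubgroup V) {a : F} (ha : a ≠ 0) (hU : ∀ x ∈ U, x ≠ 0 → B x x = a) :
    Nat.card U ≤ 4 := by
  classical
  have : Finite V := Module.finite_of_finite F
  by_cases h0 : ∀ x ∈ U, x = 0
  · rw [(AddSubgroup.eq_bot_iff_forall U).2 h0, AddSubgroup.card_bot]; norm_num
  push Not at h0
  obtain ⟨x, hx, hx0⟩ := h0
  have key : ∀ s : Finset U, s.card ≤ 4 → (∀ z : U, z ∈ s) → Nat.card U ≤ 4 := fun s hs hall => by
    have : Fintype U := Fintype.ofFinite U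
    rw [Nat.card_eq_fintype_card, ← Finset.card_univ]
    exact le_trans (Finset.card_le_card fun z _ => hall z) hs
  by_cases h2 : (2 : F) = 0
  · -- characteristic two
    have hneg : ∀ w : V, -w = w := fun w => by
      rw [← neg_one_smul F w, show (-1 : F) = 1 by linear_combination -h2, one_smul]
    have hT : ∀ w ∈ U, ∀ z ∈ U, w ≠ 0 → z ≠ 0 → w ≠ z → B w z + B z w = a := fun w hw z hz hw0 hz0 hne => by
      have e := hU _ (U.add_mem hw hz) fun h => hne (by rw [eq_neg_of_add_eq_zero_left h, hneg])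
      simp only [map_add, LinearMap.add_apply, hU w hw hw0, hU z hz hz0] at e
      linear_combination e - a * h2
    by_cases hz : ∀ z ∈ U, z = 0 ∨ z = x
    · refine key {0, ⟨x, hx⟩} (Finset.card_le_two.trans (by norm_num)) fun z => ?_
      rcases hz z.1 z.2 with h | h
      · simp [Subtype.ext_iff, h]
      · simp [Subtype.ext_iff, h]
    push Not at hz
    obtain ⟨z, hzU, hz0, hzx⟩ := hz
    refine key {0, ⟨x, hx⟩, ⟨z, hzU⟩, ⟨x + z, U.add_mem hx hzU⟩} Finset.card_le_four fun s => ?_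
    by_contra hs
    simp only [Finset.mem_insert, Finset.mem_singleton, not_or] at hs
    obtain ⟨hs0, hsx', hsz', hsxz'⟩ := hs
    have hsx : (s : V) ≠ x := fun h => hsx' (Subtype.ext h)
    have hsz : (s : V) ≠ z := fun h => hsz' (Subtype.ext h)
    have hsxz : (s : V) ≠ x + z := fun h => hsxz' (Subtype.ext h)
    have hsU := s.2
    have hs0' : (s : V) ≠ 0 := fun h => hs0 (Subtype.ext h)
    have hne : x + z + s.1 ≠ 0 := fun h => hsxz (by rw [← hneg (x + z), eq_neg_of_add_eq_zero_right h])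
    have e := hU _ (U.add_mem (U.add_mem hx hzU) hsU) hne
    have t1 := hT x hx z hzU hx0 hz0 (Ne.symm hzx)
    have t2 := hT x hx _ hsU hx0 hs0' (Ne.symm hsx)
    have t3 := hT z hzU _ hsU hz0 hs0' (Ne.symm hsz)
    simp only [map_add, LinearMap.add_apply, hU x hx hx0, hU z hzU hz0, hU _ hsU hs0'] at e
    exact ha (by linear_combination e - t1 - t2 - t3 - (2 * a) * h2)
  have h2x : x + x ≠ 0 := fun h => hx0 (by
    rw [← two_smul F, smul_eq_zero] at h
    exact h.resolve_left h2)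
  have h3 : (3 : F) = 0 := by
    have e := hU _ (U.add_mem hx hx) h2x
    simp only [map_add, LinearMap.add_apply, hU x hx hx0] at e
    exact (mul_eq_zero.1 (by linear_combination e : (3 : F) * a = 0)).resolve_right ha
  refine key {0, ⟨x, hx⟩, ⟨-x, U.neg_mem hx⟩} (Finset.card_le_three.trans (by norm_num)) fun z => ?_
  by_contra hz
  simp only [Finset.mem_insert, Finset.mem_singleton, not_or] at hz
  obtain ⟨hz0, hzx', hznx'⟩ := hz
  have hzx : (z : V) ≠ x := fun h => hzx' (Subtype.ext h)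
  have hznx : (z : V) ≠ -x := fun h => hznx' (Subtype.ext h)
  have hz0' : (z : V) ≠ 0 := fun h => hz0 (Subtype.ext h)
  have e1 := hU _ (U.add_mem hx z.2) fun h => hznx (eq_neg_of_add_eq_zero_right h)
  have e2 := hU _ (U.sub_mem hx z.2) fun h => hzx (sub_eq_zero.1 h).symm
  simp only [map_add, map_sub, LinearMap.add_apply, LinearMap.sub_apply, hU x hx hx0, hU _ z.2 hz0'] at e1 e2
  exact mul_ne_zero h2 ha (by linear_combination e1 + e2)

variable {V : Type uV} [AddCommGroup V] [Module F V] [FiniteDimensional F V] {B : V →ₛₗ[θ] V →ₗ[F] F}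
  (τ : Fr B) (K : Subgroup (Herm.suG B))

/-- The induction hypothesis: the bound one step down. -/
def Below (θ : F →+* F) (k : ℕ) : Prop :=
  3 ≤ k → ∀ (W : Type uV) [AddCommGroup W] [Module F W] [FiniteDimensional F W] (BW : W →ₛₗ[θ] W →ₗ[F] F),
    Herm.IsHerm BW → finrank F W = 2 * k → ∀ H : Subgroup (Herm.suG BW), H ≠ ⊤ →
      Ne (Nat.card (Herm.fixField θ)) k ≤ H.index

theorem Sb_eq_bot {k : ℕ} (hk : 2 ≤ k) (hd : finrank F V = 2 * k + 2) (hZ : τ.Zp K ≠ ⊤) (hI : τ.I1 K = ⊤) :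
    τ.Sb K = ⊥ := by
  by_contra hS
  have : Finite τ.W := Module.finite_of_finite F
  have hdW : finrank F τ.W = 2 * k := by have := τ.finrank_W; omega
  have hL := card_invariant_ge τ.hB_W (by omega) (τ.Sb K)
    (fun g x hx => τ.Sb_inv_I1 K (hI ▸ Subgroup.mem_top g) hx) hS
  have h1 := τ.Sb_index_ge K hdW hZ
  have h2 := (τ.Sb K).card_mul_index
  rw [τ.card_W hdW] at h2
  have hq := two_le_fix τ.hB.toIsInvol
  rw [card_iso τ.hB_W hdW] at hL
  set q := Nat.card (Herm.fixField θ) with hqd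
  have h3 : Nat.card (τ.Sb K) ≤ q ^ (2 * k) := by
    refine Nat.le_of_mul_le_mul_right ?_ (show 0 < q ^ (2 * k) by positivity)
    calc Nat.card (τ.Sb K) * q ^ (2 * k) ≤ Nat.card (τ.Sb K) * (τ.Sb K).index := Nat.mul_le_mul_left _ h1
      _ = q ^ (2 * k) * q ^ (2 * k) := by rw [h2, ← pow_add, two_mul (2 * k)]
  rw [Ne_mul q k (by omega)] at hL
  have h4 : 2 ≤ q ^ (2 * k) := le_trans hq (Nat.le_self_pow (by omega) q)
  have h5 : 3 ≤ q ^ (2 * k - 1) + 1 := by
    have : q ≤ q ^ (2 * k - 1) := Nat.le_self_pow (by omega) q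
    omega
  have h6 := Nat.mul_le_mul_left (q ^ (2 * k) - 1) h5
  omega

theorem tz_ge (hZ : τ.Zp K ≠ ⊤) : Nat.card (Herm.fixField θ) ≤ (τ.T2 K).index * (τ.Zp K).index := by
  have := τ.mul_ge K hZ
  have := τ.T2_pos K
  omega

theorem I1_two (hI : τ.I1 K ≠ ⊤) : 2 ≤ (τ.I1 K).index := by
  have := Fr.finite_su (B := τ.BW)
  have : (τ.I1 K).index ≠ 0 := Subgroup.index_ne_zero_of_finite
  have : (τ.I1 K).index ≠ 1 := fun h1 => hI (Subgroup.index_eq_one.1 h1)
  omega

theorem Ne_ge (q k : ℕ) (hk : 1 ≤ k) : (q ^ (2 * k - 1) + 1) * q ^ (2 * k - 2) ≤ Ne q k := by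
  refine Nat.mul_le_mul_left _ ?_
  rw [show 2 * k - 2 = 2 * (k - 1) by omega, pow_mul]
  exact Finset.single_le_sum (f := fun i => (q ^ 2) ^ i) (fun _ _ => Nat.zero_le _)
    (Finset.mem_range.2 (show k - 1 < k by omega))

/-- A moved point with a small Levi part. -/
theorem moved_ge {k : ℕ} (hk : 2 ≤ k) (hd : finrank F V = 2 * k + 2) (hq3 : 3 ≤ Nat.card (Herm.fixField θ))
    (hIH : Below.{uF, uV} θ k) (hZ : τ.Zp K ≠ ⊤) (hI : τ.I1 K ≠ ⊤) :
    Ne (Nat.card (Herm.fixField θ)) (k + 1) ≤ K.relIndex τ.P := by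
  classical
  have : Finite τ.W := Module.finite_of_finite F
  have hdW : finrank F τ.W = 2 * k := by have := τ.finrank_W; omega
  rw [τ.relIndex_P K (by omega)]
  have hw := τ.Sb_index_ge K hdW hZ
  have htz := tz_ge τ K hZ
  have hi2 := I1_two τ K hI
  have hsw := (τ.Sb K).card_mul_index
  rw [τ.card_W hdW] at hsw
  set q := Nat.card (Herm.fixField θ) with hqd
  suffices Ne q (k + 1) ≤ (τ.I1 K).index * (τ.Sb K).index * q by
    calc _ ≤ (τ.I1 K).index * (τ.Sb K).index * q := this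
      _ ≤ (τ.I1 K).index * (τ.Sb K).index * ((τ.T2 K).index * (τ.Zp K).index) := Nat.mul_le_mul_left _ htz
      _ = _ := by ring
  rw [Ne_succ q k (by omega) (by omega)]
  rcases Nat.lt_or_ge k 3 with hk3 | hk3
  swap
  · have hi : Ne q k ≤ (τ.I1 K).index := hIH hk3 τ.W τ.BW τ.hB_W hdW _ hI
    calc q ^ 2 * Ne q k + q ^ (4 * k + 1) + 1 ≤ Ne q k * q ^ (2 * k) * q := by
          have hN := Ne_ge q k (by omega)
          have h1 : q ^ (4 * k + 1) * q ≤ Ne q k * q ^ (2 * k) * q := by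
            calc q ^ (4 * k + 1) * q ≤ q ^ (2 * k - 1 + (2 * k - 2) + 2 * k + 1) := by
                  rw [← pow_succ]; exact Nat.pow_le_pow_right (by omega) (by omega)
              _ ≤ (q ^ (2 * k - 1) + 1) * q ^ (2 * k - 2) * q ^ (2 * k) * q := by
                  rw [pow_add, pow_add, pow_add, pow_one]; gcongr; omega
              _ ≤ _ := by gcongr
          have h2 : 2 * q ^ (4 * k + 1) ≤ q ^ (4 * k + 1) * q := by
            rw [mul_comm 2]; exact Nat.mul_le_mul_left _ (by omega)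
          have h3 : 3 * (q ^ 2 * Ne q k) ≤ Ne q k * q ^ (2 * k) * q := by
            calc 3 * (q ^ 2 * Ne q k) = Ne q k * q ^ 2 * 3 := by ring
              _ ≤ Ne q k * q ^ (2 * k) * q := by gcongr <;> omega
          have h4 : 6 ≤ q ^ (4 * k + 1) := by
            have : q ^ 2 ≤ q ^ (4 * k + 1) := Nat.pow_le_pow_right (by omega) (by omega)
            have : 3 ^ 2 ≤ q ^ 2 := Nat.pow_le_pow_left hq3 2
            omega
          omega
      _ ≤ _ := by gcongr
  obtain rfl : k = 2 := by omega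
  rw [Ne_two, show 4 * 2 + 1 = 9 from rfl]
  have h45 : q ^ 4 + q ^ 2 + 1 ≤ q ^ 5 := by
    have h1 : q ^ 2 ≤ q ^ 4 := Nat.pow_le_pow_right (by omega) (by omega)
    have h2 : q ^ 4 * 3 ≤ q ^ 5 := by rw [pow_succ q 4]; exact Nat.mul_le_mul_left _ hq3
    have h3 : 1 ≤ q ^ 2 := Nat.one_le_pow _ _ (by omega)
    omega
  by_cases hS : τ.Sb K = ⊥
  · rw [hS, AddSubgroup.card_bot, one_mul] at hsw
    rw [hS, hsw]
    calc q ^ 2 * ((q ^ 3 + 1) * (q ^ 2 + 1)) + q ^ 9 + 1 ≤ 2 * q ^ 8 * q := by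
          have h1 : q ^ 7 * 9 ≤ q ^ 9 := by
            rw [pow_add q 7 2]; exact Nat.mul_le_mul_left _ (Nat.pow_le_pow_left hq3 2)
          have h2 : q ^ 5 ≤ q ^ 7 := Nat.pow_le_pow_right (by omega) (by omega)
          have h3 : 0 < q ^ 7 := by positivity
          linarith
      _ ≤ _ := by gcongr
  have hsmall : Nat.card (τ.Sb K) ≤ q ^ 4 := by
    refine Nat.le_of_mul_le_mul_right ?_ (show 0 < q ^ 4 by positivity)
    calc Nat.card (τ.Sb K) * q ^ 4 ≤ Nat.card (τ.Sb K) * (τ.Sb K).index := Nat.mul_le_mul_left _ hw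
      _ = q ^ 4 * q ^ 4 := by rw [hsw]; ring
  obtain ⟨hT, -⟩ := index_four τ.hB_W hdW hq3 (τ.I1 K) (τ.Sb K) (fun g hg x hx => τ.Sb_inv_I1 K hg hx) hS hsmall
  rw [← hqd] at hT
  calc q ^ 2 * ((q ^ 3 + 1) * (q ^ 2 + 1)) + q ^ 9 + 1 ≤ (q ^ 4 + q ^ 2 + 2) * q ^ 4 * q := by linarith
    _ ≤ _ := by gcongr

/-- A moved point with a full Levi part. -/
theorem moved_top {k : ℕ} (hk : 2 ≤ k) (hd : finrank F V = 2 * k + 2) (hZ : τ.Zp K ≠ ⊤) (hI : τ.I1 K = ⊤) :
    Nat.card (Herm.fixField θ) ^ (4 * k + 1) ≤ K.relIndex τ.P := by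
  have hdW : finrank F τ.W = 2 * k := by have := τ.finrank_W; omega
  rw [τ.relIndex_P K (by omega), hI, Subgroup.index_top, Sb_eq_bot τ K hk hd hZ hI, AddSubgroup.index_bot,
    τ.card_W hdW, one_mul, show 4 * k + 1 = 2 * (2 * k) + 1 by ring, pow_succ]
  calc _ ≤ _ * ((τ.T2 K).index * (τ.Zp K).index) := Nat.mul_le_mul_left _ (tz_ge τ K hZ)
    _ = _ := by ring

/-- A fixed point. -/
theorem fixed_ge {k : ℕ} (hk : 2 ≤ k) (hd : finrank F V = 2 * k + 2) (hq3 : 3 ≤ Nat.card (Herm.fixField θ))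
    (hIH : Below.{uF, uV} θ k) (hS : τ.Sb K ≠ ⊤) :
    Nat.card (Herm.fixField θ) ^ 2 * Ne (Nat.card (Herm.fixField θ)) k ≤ K.relIndex τ.P := by
  classical
  have : Finite τ.W := Module.finite_of_finite F
  have := Fr.finite_su (B := τ.BW)
  have hdW : finrank F τ.W = 2 * k := by have := τ.finrank_W; omega
  rw [τ.relIndex_P K (by omega)]
  set i := (τ.I1 K).index with hid
  set w := (τ.Sb K).index with hwd
  have hz1 : 1 ≤ (τ.Zp K).index := Nat.pos_of_ne_zero AddSubgroup.index_ne_zero_of_finite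
  suffices Nat.card (Herm.fixField θ) ^ 2 * Ne (Nat.card (Herm.fixField θ)) k ≤ i * w by
    calc _ ≤ 1 * (i * (w * 1)) := by rw [one_mul, mul_one]; exact this
      _ ≤ _ := by gcongr; exact τ.T2_pos K
  have hi1 : 1 ≤ i := τ.I1_pos K
  set q := Nat.card (Herm.fixField θ) with hqd
  have hq2 : 9 ≤ q ^ 2 := Nat.pow_le_pow_left hq3 2
  have hC0 : q ^ 2 * Ne q k = Ne q k * (q ^ 2 - 1) + Ne q k := by
    rw [Nat.mul_sub, mul_one, Nat.sub_add_cancel (Nat.le_mul_of_pos_right _ (by omega)), mul_comm]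
  have hX : 1 ≤ q ^ (2 * k) := Nat.one_le_pow _ _ (by omega)
  have hC1 : Ne q k * (q ^ 2 - 1) = q ^ (2 * k - 1) * (q ^ (2 * k) - 1) + (q ^ (2 * k) - 1) := by
    rw [Ne_mul q k (by omega)]; ring
  have hNX : q ^ (2 * k) ≤ Ne q k := by
    refine le_trans ?_ (Ne_ge q k (by omega))
    refine le_trans ?_ (Nat.mul_le_mul_right _ (Nat.le_succ (q ^ (2 * k - 1))))
    rw [← pow_add]
    exact Nat.pow_le_pow_right (by omega) (by omega)
  have hN8 : Ne q k * 8 ≤ Ne q k * (q ^ 2 - 1) := Nat.mul_le_mul_left _ (by omega)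
  obtain ⟨U, hUc, hUinv⟩ := τ.exists_annih K
  rw [← hwd] at hUc
  have hU0 : U ≠ ⊥ := fun h0 => hS (AddSubgroup.index_eq_one.1 (by rw [← hwd, ← hUc, h0, AddSubgroup.card_bot]))
  by_cases hI : τ.I1 K = ⊤
  · rw [show i = 1 by rw [hid, hI, Subgroup.index_top], one_mul, ← hUc, hC0]
    refine le_trans ?_ (card_invariant_ge τ.hB_W (by omega) U (fun g x hx => hUinv g (hI ▸ Subgroup.mem_top g) x hx) hU0)
    rw [card_iso τ.hB_W hdW, card_aniso τ.hB_W hdW (map_one θ) one_ne_zero, ← hqd]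
    omega
  rcases Nat.lt_or_ge k 3 with hk3 | hk3
  · obtain rfl : k = 2 := by omega
    by_cases hUs : Nat.card U ≤ q ^ 4
    · obtain ⟨-, h2⟩ := index_four τ.hB_W hdW hq3 (τ.I1 K) U hUinv hU0 hUs
      rw [hUc, ← hqd, ← hid] at h2
      exact h2
    rw [hUc] at hUs
    push Not at hUs
    have hsw := (τ.Sb K).card_mul_index
    rw [τ.card_W hdW, ← hwd, ← hqd] at hsw
    rw [Ne_two]
    have h87 : q ^ 2 * ((q ^ 3 + 1) * (q ^ 2 + 1)) ≤ q ^ 8 := by
      have h1 : q ^ 7 * 3 ≤ q ^ 8 := by rw [pow_succ q 7]; exact Nat.mul_le_mul_left _ hq3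
      have h2 : q ^ 5 + q ^ 4 ≤ q ^ 7 := by
        have : 4 * q ^ 5 ≤ q ^ 7 := by rw [pow_add q 2 5]; gcongr; nlinarith
        have : q ^ 4 ≤ q ^ 5 := Nat.pow_le_pow_right (by omega) (by omega)
        omega
      have h3 : q ^ 2 ≤ q ^ 7 := Nat.pow_le_pow_right (by omega) (by omega)
      linarith
    by_cases hSb : τ.Sb K = ⊥
    · rw [hSb, AddSubgroup.card_bot, one_mul] at hsw
      rw [hsw]
      exact h87.trans (Nat.le_mul_of_pos_left _ hi1)
    have hsmall : Nat.card (τ.Sb K) ≤ q ^ 4 := by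
      refine Nat.le_of_mul_le_mul_right ?_ (show 0 < q ^ 4 by positivity)
      calc Nat.card (τ.Sb K) * q ^ 4 ≤ Nat.card (τ.Sb K) * w := Nat.mul_le_mul_left _ hUs.le
        _ = q ^ 4 * q ^ 4 := by rw [hsw]; ring
    obtain ⟨hT, -⟩ := index_four τ.hB_W hdW hq3 (τ.I1 K) (τ.Sb K) (fun g hg x hx => τ.Sb_inv_I1 K hg hx) hSb
      hsmall
    rw [← hqd, ← hid] at hT
    calc _ ≤ q ^ 4 * q ^ 4 := h87.trans (le_of_eq (by ring))
      _ ≤ i * w := Nat.mul_le_mul (le_trans (by omega) hT) hUs.le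
  have hi : Ne q k ≤ i := hIH hk3 τ.W τ.BW τ.hB_W hdW _ hI
  have horb : ∀ u ∈ U, u ≠ 0 → (∀ x z : τ.W, x ≠ 0 → z ≠ 0 → τ.BW x x = τ.BW u u → τ.BW z z = τ.BW u u →
      ∃ g : Herm.suG τ.BW, g.1 x = z) →
      Nat.card {x : τ.W // x ≠ 0 ∧ τ.BW x x = τ.BW u u} ≤
        i * Nat.card {x : τ.W // x ∈ U ∧ x ≠ 0 ∧ τ.BW x x = τ.BW u u} := fun u hu hu0 htr =>
    orbit_count (B := τ.BW) (C := {x | x ≠ 0 ∧ τ.BW x x = τ.BW u u}) (U := (U : Set τ.W))
      (fun g x hx => norm_inv _ g hx) (fun x hx z hz => htr x z hx.1 hz.1 hx.2 hz.2) (τ.I1 K) hUinv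
      ⟨u, hu, hu0, rfl⟩
  by_cases hA : ∃ u ∈ U, τ.BW u u ≠ 0
  · obtain ⟨u, hu, huu⟩ := hA
    have hu0 : u ≠ 0 := fun h0 => huu (by simp [h0])
    have h1 := horb u hu hu0 fun x z _ _ hx hz => trans_aniso τ.hB_W (by omega) (by rw [hz]; exact huu)
      (hx.trans hz.symm)
    rw [card_class_aniso huu, card_aniso τ.hB_W hdW (Herm.fix_self τ.hB_W u) huu, ← hqd] at h1
    have hlt := card_inter_lt U (fun x => x ≠ 0 ∧ τ.BW x x = τ.BW u u) (fun h0 => h0.1 rfl)
    rw [hUc] at hlt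
    rw [hC0, hC1]
    by_cases hall : ∀ x ∈ U, x ≠ 0 → τ.BW x x = τ.BW u u
    · have hw4 : w ≤ 4 := hUc ▸ card_one_norm U huu hall
      set c := Nat.card {x : τ.W // x ∈ U ∧ x ≠ 0 ∧ τ.BW x x = τ.BW u u}
      have h4 : 4 * (i * c) ≤ 3 * (i * w) := by
        calc 4 * (i * c) = i * (4 * c) := by ring
          _ ≤ i * (3 * w) := Nat.mul_le_mul_left _ (by omega)
          _ = _ := by ring
      omega
    push Not at hall
    obtain ⟨v, hv, hv0, hvne⟩ := hall
    have h2 : Nat.card {x : τ.W // x ∈ U ∧ x ≠ 0 ∧ τ.BW x x = τ.BW u u} + 2 ≤ w := by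
      rw [← hUc]
      rw [show 2 = 1 + 1 from rfl, ← add_assoc, ← Finite.card_option, ← Finite.card_option]
      refine Nat.card_le_card_of_injective
        (fun o => o.elim (⟨v, hv⟩ : U) fun o' => o'.elim (0 : U) fun x => ⟨x.1, x.2.1⟩) ?_
      rintro (_ | _ | x) (_ | _ | z) e
      · rfl
      · exact absurd (congrArg Subtype.val e :) hv0
      · have e' : v = z.1 := congrArg Subtype.val e
        exact absurd (e'.symm ▸ z.2.2.2) hvne
      · exact absurd (congrArg Subtype.val e :).symm hv0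
      · rfl
      · have e' : (0 : τ.W) = z.1 := congrArg Subtype.val e
        exact absurd e'.symm z.2.2.1
      · have e' : x.1 = v := congrArg Subtype.val e
        exact absurd (e' ▸ x.2.2.2) hvne
      · have e' : x.1 = (0 : τ.W) := congrArg Subtype.val e
        exact absurd e' x.2.2.1
      · exact congrArg (some ∘ some) (Subtype.ext (congrArg (fun z : U => (z : τ.W)) e))
    have h3 := Nat.mul_le_mul_left i h2
    rw [Nat.mul_add] at h3
    omega
  push Not at hA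
  obtain ⟨u, hu, hu0⟩ : ∃ u ∈ U, u ≠ 0 := by
    by_contra hc; push Not at hc; exact hU0 ((AddSubgroup.eq_bot_iff_forall _).2 hc)
  have h1 := horb u hu hu0 fun x z hx0 hz0 hx hz =>
    trans_iso τ.hB_W (by omega) hx0 (hx.trans (hA u hu)) hz0 (hz.trans (hA u hu))
  rw [hA u hu, card_iso τ.hB_W hdW, ← hqd] at h1
  have hlt := card_inter_lt U (fun x => x ≠ 0 ∧ τ.BW x x = 0) (fun h0 => h0.1 rfl)
  rw [hUc] at hlt
  have h3 := Nat.mul_le_mul_left i hlt
  rw [Nat.mul_add, mul_one] at h3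
  rw [hC0]
  omega

end Cfsg.Agent.MinIndexForm.SUE
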