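import Cfsg.Agent.MinIndexForm.SUE.Counts
import Cfsg.Agent.MinIndexForm.SU.Pair

/-!
The two non-orthogonal transvection groups when the complement has even dimension at least four.
-/

set_option autoImplicit false

namespace Cfsg.Agent.MinIndexForm.SUE

open Cfsg.Agent.Classical Cfsg.Agent.MinIndexForm.SU Module

universe uF uV
variable {F : Type uF} {V : Type uV} [Field F] [AddCommGroup V] [Module F V] {θ : F →+* F}
  {B : V →ₛₗ[θ] V →ₗ[F] F}

theorem ext_pow (ρ : Fr B) (a : Fˣ) (l : ρ.W ≃ₗ[F] ρ.W) :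
    ∀ n : ℕ, (ρ.ext a l) ^ n = ρ.ext (a ^ n) (l ^ n) := by
  intro n
  induction n with
  | zero => exact ρ.ext_frame (by simp [ρ.ext_y]) (by simp [ρ.ext_f]) fun w => by simp [ρ.ext_W]
  | succ n ih => rw [pow_succ, ih, ρ.ext_mul, pow_succ, pow_succ]

theorem ext_fixfree (ρ : Fr B) {a : Fˣ} {l : ρ.W ≃ₗ[F] ρ.W} (ha : a ≠ 1) (hl : ∀ u, l u = u → u = 0) {u : V}
    (hu : ρ.ext a l u = u) : u = 0 := by
  rw [ρ.ext_apply] at hu
  have e1 := congrArg ρ.pr hu
  have e2 := congrArg (B ρ.f) hu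
  have e3 := congrArg (B ρ.y) hu
  simp [ρ.pr_W, ρ.pr_y, ρ.pr_f] at e1
  simp [ρ.Bf, ρ.By, ρ.hff, ρ.hfy, ρ.hyy, ρ.hyf] at e2 e3
  have z1 : ρ.pr u = 0 := hl _ e1
  have z2 : B ρ.f u = 0 := by
    have h2 : ((a : F) - 1) * B ρ.f u = 0 := by linear_combination e2
    exact (mul_eq_zero.1 h2).resolve_left (sub_ne_zero.2 fun e => ha (Units.ext e))
  have z3 : B ρ.y u = 0 := by
    have h2 : ((θ (a : F))⁻¹ - 1) * B ρ.y u = 0 := by linear_combination e3
    refine (mul_eq_zero.1 h2).resolve_left (sub_ne_zero.2 fun e => ha (Units.ext (θ.injective ?_)))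
    rw [Units.val_one, map_one]
    exact inv_eq_one.1 e
  rw [ρ.decomp u, z1, z2, z3]
  simp

variable [Finite F] [FiniteDimensional F V]

/-- Two non-orthogonal transvection groups. -/
theorem exists_root_pair (τ : Fr B) {K : Subgroup (Herm.suG B)} (hS : τ.Sb K = ⊥) (hI : τ.I1 K = ⊤) {k : ℕ}
    (hk : 2 ≤ k) (hd : finrank F τ.W = 2 * k) (hq3 : 3 ≤ Nat.card (Herm.fixField θ)) :
    ∃ a b : V, B a a = 0 ∧ B b b = 0 ∧ B a b ≠ 0 ∧ HasRoot K a ∧ HasRoot K b := by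
  have hθ := τ.hB.toIsInvol
  obtain ⟨b, hb2, hbr, hbN⟩ := exists_generic hθ
  set q := Nat.card (Herm.fixField θ) with hq
  set μ := θ (b : F) / b with hμ
  have hμn : μ * θ μ = 1 := quot_norm hθ
  have hμ0 : μ ≠ 0 := left_ne_zero_of_mul_eq_one hμn
  obtain ⟨e, he, he0⟩ := Herm.exists_isotropic τ.hB_W (by omega)
  obtain ⟨ρ, -⟩ := exists_frame τ.hB_W he he0
  have hdρ : finrank F ρ.W = 2 * (k - 1) := by have := ρ.finrank_W; omega
  obtain ⟨e', he', he0'⟩ := Herm.exists_isotropic ρ.hB_W (by omega)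
  obtain ⟨σ', -⟩ := exists_frame ρ.hB_W he' he0'
  have hd2 : finrank F σ'.W = 2 * (k - 2) := by have := σ'.finrank_W; omega
  let δ : Fin (2 * (k - 2)) → F := fun i => if Even i.1 then μ else μ⁻¹
  have hδn : ∀ i, δ i * θ (δ i) = 1 := fun i => by
    simp only [δ]
    split_ifs
    · exact hμn
    · rw [map_inv₀, ← mul_inv, hμn, inv_one]
  obtain ⟨bas, g, -, hg, hgb, hdet⟩ := exists_diag σ'.hB_W hd2 δ hδn
  have hprod : ∀ l, ∏ i ∈ Finset.range (2 * l), (if Even i then μ else μ⁻¹) = 1 := by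
    intro l
    induction l with
    | zero => simp
    | succ l ih =>
      rw [show 2 * (l + 1) = 2 * l + 1 + 1 by ring, Finset.prod_range_succ, Finset.prod_range_succ, ih,
        if_pos (even_two_mul l), if_neg (by simp [Nat.even_add_one]), one_mul, mul_inv_cancel₀ hμ0]
  have hdet' : ((LinearEquiv.det (M := ↥σ'.W) g : Fˣ) : F) = 1 := by
    rw [hdet, Fin.prod_univ_eq_prod_range (fun i => if Even i then μ else μ⁻¹), hprod]
  set g' := σ'.ext b⁻¹ g with hg'def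
  have hg' : ∀ u v, ρ.BW (g' u) (g' v) = ρ.BW u v := σ'.ext_isometry b⁻¹ hg
  have hdg' : (LinearEquiv.det g' : F) = μ := by
    rw [hg'def, σ'.det_ext, hdet', mul_one, Units.val_inv_eq_inv_val, map_inv₀, inv_inv, hμ]
    ring
  have hm : ρ.ext b g' ∈ Herm.suG τ.BW := ⟨ρ.ext_isometry b hg', Units.ext (by
    rw [ρ.det_ext, hdg', Units.val_one, hμ]
    have h0 : θ (b : F) ≠ 0 := (map_ne_zero θ).2 b.ne_zero
    field_simp)⟩
  have hbq : b ^ (q - 1) ≠ 1 := fun e => hbr (fix_of_pow hθ e)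
  have hbq' : b⁻¹ ^ (q - 1) ≠ 1 := fun e => hbq (by rwa [inv_pow, inv_eq_one] at e)
  have hδq : ∀ i, δ i ^ (q - 1) ≠ 1 := fun i e => by
    have e' : μ ^ (q - 1) = 1 := by
      simp only [δ] at e
      split_ifs at e
      · exact e
      · rwa [inv_pow, inv_eq_one] at e
    have h1 : θ μ = μ := fix_of_pow (a := Units.mk0 μ hμ0) hθ (Units.ext e')
    exact hb2 (by rw [pow_two]; conv_lhs => arg 2; rw [← h1]
                  exact hμn)
  have heig : ∀ i, (g ^ (q - 1) : σ'.W ≃ₗ[F] σ'.W) (bas i) = δ i ^ (q - 1) • bas i := fun i =>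
    pow_apply_eig (V := ↥σ'.W) (g := g) (hgb i) (q - 1)
  have hfree : ∀ u : τ.W, ((ρ.ext b g') ^ (q - 1)) u = u → u = 0 := fun u hu => by
    rw [ext_pow] at hu
    refine ext_fixfree ρ hbq (fun w hw => ?_) hu
    rw [hg'def, ext_pow] at hw
    exact ext_fixfree σ' hbq' (fun z hz => fixfree_diag (V := ↥σ'.W) bas
      (g := ((g ^ (q - 1) : σ'.W ≃ₗ[F] σ'.W) : σ'.W →ₗ[F] σ'.W))
      (δ := fun i => δ i ^ (q - 1)) heig hδq hz) hw
  have hfree1 : ∀ u : τ.W, (⟨_, hm⟩ : Herm.suG τ.BW).1 u = u → u = 0 := fun u hu => by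
    refine hfree u ?_
    have hu' : ρ.ext b g' u = u := hu
    clear hfree
    induction (q - 1) with
    | zero => simp
    | succ n ih => rw [pow_succ, LinearEquiv.mul_apply, hu', ih]
  obtain ⟨s, c0, hS', hI', hm'⟩ := τ.normalise hS hI hfree1
  have h1 := τ.root_of_eig hS' hI' hm' hfree ρ.hyy (b := (b : F)) (ρ.ext_y b g') (hbN hq3) b.ne_zero
  have h2 := τ.root_of_eig hS' hI' hm' hfree ρ.hff (b := (θ (b : F))⁻¹) (ρ.ext_f b g') (fun e => hbN hq3 (by
    rw [map_inv₀, hθ.invol, ← mul_inv, inv_eq_one, mul_comm] at e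
    exact e)) (inv_ne_zero ((map_ne_zero θ).2 b.ne_zero))
  refine ⟨_, _, ?_, ?_, ?_, hasRoot_of_conjS h1, hasRoot_of_conjS h2⟩
  · rw [(s⁻¹).2.1]; exact ρ.hyy
  · rw [(s⁻¹).2.1]; exact ρ.hff
  · rw [(s⁻¹).2.1]
    have : τ.BW ρ.y ρ.f ≠ 0 := by rw [ρ.hyf]; exact one_ne_zero
    exact this

end Cfsg.Agent.MinIndexForm.SUE
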