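import Cfsg.Agent.MinIndexForm.SUE.Levels
import Cfsg.Agent.MinIndexForm.SUE.Pair

/-!
The minimal index of a proper subgroup of a special unitary group in even dimension at least six.
-/

set_option autoImplicit false

namespace Cfsg.Agent.MinIndexForm.SUE

open Cfsg.Agent.Classical Cfsg.Agent.MinIndexForm.SU Module

universe uF uV
variable {F : Type uF} [Field F] [Finite F] {θ : F →+* F} {V : Type uV} [AddCommGroup V] [Module F V]
  [FiniteDimensional F V] {B : V →ₛₗ[θ] V →ₗ[F] F}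

/-- The bound, one dimension step. -/
theorem index_step (h : Herm.IsHerm B) {j : ℕ} (hj : 2 ≤ j) (hd : finrank F V = 2 * j + 2)
    (hq3 : 3 ≤ Nat.card (Herm.fixField θ))
    (hIH : Below.{uF, uV} θ j) (H : Subgroup (Herm.suG B)) (hH : H ≠ ⊤) :
    Ne (Nat.card (Herm.fixField θ)) (j + 1) ≤ H.index := by
  classical
  have := Fr.finite_su (B := B)
  have hq := two_le_fix h.toIsInvol
  set q := Nat.card (Herm.fixField θ) with hqd
  obtain ⟨v, hv0, hvv, hv⟩ : ∃ v : V, v ≠ 0 ∧ B v v = 0 ∧ ¬HasRoot H v := by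
    by_contra hc
    push Not at hc
    exact hH (eq_top_of_roots h (by omega) (.inr (by omega)) hc)
  obtain ⟨τ0, rfl⟩ := exists_frame h hv0 hvv
  rw [τ0.hasRoot_iff] at hv
  by_cases hI : τ0.I1 H = ⊤
  swap
  · exact (moved_ge τ0 H hj hd hq3 hIH hv hI).trans (τ0.relIndex_le_index H)
  obtain ⟨a, b, haa, hbb, hab, ha, hb⟩ := exists_root_pair τ0 (Sb_eq_bot τ0 H hj hd hv hI) hI hj
    (by have := τ0.finrank_W; omega) hq3
  obtain ⟨ρ, hρ, hS⟩ := exists_fixed_frame h (by omega) (by omega) hH haa hbb hab ha hb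
  obtain ⟨g, hg⟩ := trans_iso h (by omega) τ0.y_ne τ0.hyy ρ.y_ne ρ.hyy
  have hmove : ρ.Zp (conjS g H) ≠ ⊤ := fun hc => by
    have h1 := hasRoot_of_conjS (ρ.hasRoot_iff.2 hc)
    have e : (g⁻¹).1 ρ.y = τ0.y := by
      rw [← hg, ← LinearEquiv.mul_apply, ← Subgroup.coe_mul, inv_mul_cancel]; rfl
    rw [e] at h1
    exact hv (τ0.hasRoot_iff.1 h1)
  by_cases hI' : ρ.I1 (conjS g H) = ⊤
  swap
  · have := (moved_ge ρ (conjS g H) hj hd hq3 hIH hmove hI').trans (ρ.relIndex_le_index _)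
    rwa [index_conjS] at this
  have hOm := moved_top ρ (conjS g H) hj hd hmove hI'
  have hOf := fixed_ge ρ H hj hd hq3 hIH hS
  rw [← hqd] at hOm hOf
  set Q : Herm.suG B ⧸ H → Prop := fun x => FixedR ρ H x.out⁻¹ with hQd
  have hQmk : ∀ g : Herm.suG B, Q g ↔ ρ.Zp (conjS g H) = ⊤ := fun g => by
    obtain ⟨i, hi⟩ := QuotientGroup.mk_out_eq_mul H g
    rw [← FixedR_iff]
    show FixedR ρ H _ ↔ _
    rw [hi, mul_inv_rev, FixedR_left ρ (inv_mem i.2)]
  have hQinv : ∀ k ∈ ρ.P, ∀ x, Q (k • x) ↔ Q x := fun k hk x => by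
    induction x using QuotientGroup.induction_on with
    | _ g =>
      show Q ((k * g : Herm.suG B) : Herm.suG B ⧸ H) ↔ _
      rw [hQmk, hQmk, ← FixedR_iff, ← FixedR_iff, mul_inv_rev, FixedR_right ρ (inv_mem hk)]
  have hFix : H.relIndex ρ.P ≤ Nat.card {x // Q x} := by
    have := orbit_le H ρ.P Q (fun k hk x hx => (hQinv k hk x).2 hx) (g := 1)
      ((hQmk 1).2 (by rw [conjS_one]; exact ρ.hasRoot_iff.1 hρ))
    rwa [← conjS, conjS_one] at this
  have hMov : (conjS g H).relIndex ρ.P ≤ Nat.card {x // ¬Q x} :=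
    orbit_le H ρ.P (fun x => ¬Q x) (fun k hk x hx hx' => hx ((hQinv k hk x).1 hx')) (fun hc => hmove ((hQmk g).1 hc))
  have hsum : Nat.card {x // Q x} + Nat.card {x // ¬Q x} = H.index := by
    rw [← Nat.card_sum, Nat.card_congr (Equiv.sumCompl Q)]; rfl
  rw [Ne_succ q j (by omega) (by omega)]
  by_contra hlt
  have hd1 : H.index = q ^ 2 * Ne q j + q ^ (4 * j + 1) := by omega
  have hdc := double_count H ρ.P (FixedR ρ H) (fun x hx g => FixedR_left ρ hx g) fun k hk g => FixedR_right ρ hk g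
  rw [index_P ρ (k := j + 1) (by omega) (by omega), ← hqd, Ne_succ q j (by omega) (by omega), hd1] at hdc
  have hdvd : H.index ∣ Nat.card {x // Q x} := by
    rw [hd1]
    exact (Nat.coprime_self_add_right.2 (Nat.coprime_one_right _)).dvd_of_dvd_mul_left ⟨_, hdc.symm⟩
  have h0 : 0 < q ^ (4 * j + 1) := by positivity
  have hN0 : 0 < q ^ 2 * Ne q j := by
    have : 0 < Ne q j := Nat.mul_pos (Nat.succ_pos _) (Finset.sum_pos (fun i _ => by positivity) ⟨0, Finset.mem_range.2 (by omega)⟩)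
    positivity
  have := Nat.le_of_dvd (by omega) hdvd
  omega

/-- The bound in every even dimension from six on. -/
theorem index_bound (hq3 : 3 ≤ Nat.card (Herm.fixField θ)) : ∀ j, Below.{uF, uV} θ j := by
  intro j
  induction j with
  | zero => exact fun h => absurd h (by omega)
  | succ j ih =>
    intro h2 W _ _ _ BW hB hdW H hH
    exact index_step hB (by omega) (by omega) hq3 ih H hH

end Cfsg.Agent.MinIndexForm.SUE
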